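import Mathlib
import Cfsg.Prelude.Def_HallClasses
import Cfsg.Agent.GroupStructure3.PronormalOvergroup

/-!
# Subgroups of odd index and normalisers of Sylow 2-subgroups
-/

set_option autoImplicit false

namespace Cfsg.Agent.Classical.OddIndex

variable {G : Type*} [Group G]

theorem map_conj_mul (a b : G) (K : Subgroup G) :
    K.map (MulAut.conj (a * b)).toMonoidHom =
      (K.map (MulAut.conj b).toMonoidHom).map (MulAut.conj a).toMonoidHom := by
  rw [map_mul, Subgroup.map_map]; rfl

theorem map_conj_one (K : Subgroup G) : K.map (MulAut.conj (1 : G)).toMonoidHom = K := by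
  rw [map_one]; exact Subgroup.map_id K

theorem map_conj_eq_self {K : Subgroup G} {t : G} (h : t ∈ Subgroup.normalizer (K : Set G)) :
    K.map (MulAut.conj t).toMonoidHom = K := by
  ext y
  rw [Subgroup.mem_map]
  constructor
  · rintro ⟨z, hz, rfl⟩
    exact (Subgroup.mem_normalizer_iff.1 h z).1 hz
  · intro hy
    exact ⟨t⁻¹ * y * t, (Subgroup.mem_normalizer_iff.1 h _).2 (by group; exact hy), by
      simp [mul_assoc]⟩

variable [Finite G]

/-- A subgroup of odd index contains a Sylow 2-subgroup. -/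
theorem exists_sylow_le (H : Subgroup G) (hH : Odd H.index) :
    ∃ R : Sylow 2 G, (R : Subgroup G) ≤ H := by
  have : Fact (Nat.Prime 2) := ⟨Nat.prime_two⟩
  obtain ⟨P⟩ : Nonempty (Sylow 2 H) := inferInstance
  have hidx : ¬ 2 ∣ ((P : Subgroup H).map H.subtype).index := by
    rw [Subgroup.index_map_subtype]
    intro h
    rcases (Nat.prime_two.dvd_mul).1 h with h | h
    · exact P.not_dvd_index h
    · exact (Nat.not_even_iff_odd.2 hH) (even_iff_two_dvd.2 h)
  exact ⟨(P.2.map H.subtype).toSylow hidx, Subgroup.map_subtype_le _⟩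

/-- It suffices to conjugate by the normaliser of a Sylow subgroup contained in the subgroup. -/
theorem of_sylow_normalizer (H : Subgroup G) (hH : Odd H.index)
    (h : ∀ R : Sylow 2 G, (R : Subgroup G) ≤ H →
      ∀ t ∈ Subgroup.normalizer ((R : Subgroup G) : Set G),
        ∃ w ∈ H ⊔ H.map (MulAut.conj t).toMonoidHom,
          H.map (MulAut.conj t).toMonoidHom = H.map (MulAut.conj w).toMonoidHom) :
    Cfsg.IsPronormal H := by
  have : Fact (Nat.Prime 2) := ⟨Nat.prime_two⟩
  intro g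
  obtain ⟨R, hRH⟩ := exists_sylow_le H hH
  set K := H ⊔ H.map (MulAut.conj g).toMonoidHom with hK
  have hR' : ((g • R : Sylow 2 G) : Subgroup G) ≤ K := by
    refine le_trans ?_ le_sup_right
    rintro _ ⟨r, hr, rfl⟩
    exact ⟨r, hRH hr, rfl⟩
  obtain ⟨k, hk⟩ := MulAction.exists_smul_eq K (R.subtype (hRH.trans le_sup_left))
    ((g • R).subtype hR')
  rw [Sylow.smul_subtype] at hk
  have hk' : (k : G) • R = g • R := Sylow.subtype_injective hk
  have hn : (k : G)⁻¹ * g ∈ Subgroup.normalizer ((R : Subgroup G) : Set G) := by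
    apply Sylow.smul_eq_iff_mem_normalizer.1
    rw [mul_smul, ← hk', inv_smul_smul]
  obtain ⟨w, hw, e⟩ := h R hRH _ hn
  have hsub : H ⊔ H.map (MulAut.conj ((k : G)⁻¹ * g)).toMonoidHom ≤ K := by
    refine sup_le le_sup_left ?_
    rw [map_conj_mul]
    rintro _ ⟨a, ha, rfl⟩
    exact mul_mem (mul_mem (inv_mem k.2) (le_sup_right (a := H) ha)) (inv_mem (inv_mem k.2))
  refine ⟨(k : G) * w, mul_mem k.2 (hsub hw), ?_⟩
  rw [map_conj_mul _ w, ← e, ← map_conj_mul, mul_inv_cancel_left]

/-- A subgroup of odd index is pronormal if Sylow normalisers inside it normalise it. -/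
theorem of_normalizer_le (H : Subgroup G) (hH : Odd H.index)
    (h : ∀ R : Sylow 2 G, (R : Subgroup G) ≤ H →
      Subgroup.normalizer ((R : Subgroup G) : Set G) ≤ Subgroup.normalizer (H : Set G)) :
    Cfsg.IsPronormal H :=
  of_sylow_normalizer H hH fun R hR t ht =>
    ⟨1, one_mem _, by rw [map_conj_eq_self (h R hR ht), map_conj_one]⟩

omit [Finite G] in
/-- Pronormality of all subgroups of odd index passes to quotients. -/
theorem of_surjective {G' : Type*} [Group G'] (f : G →* G') (hf : Function.Surjective f)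
    (h : ∀ K : Subgroup G, f.ker ≤ K → Odd K.index → Cfsg.IsPronormal K) (H : Subgroup G')
    (hH : Odd H.index) : Cfsg.IsPronormal H := by
  have h1 := h (H.comap f) (Subgroup.ker_le_comap f H) (by rwa [Subgroup.index_comap_of_surjective H hf])
  have h2 := GroupStructure3.PronormalOvergroup.isPronormal_map f hf h1
  rwa [Subgroup.map_comap_eq_self_of_surjective hf] at h2

/-- A 2-element normalising a Sylow 2-subgroup lies in it. -/
theorem mem_of_two_element (R : Sylow 2 G) {x : G} {a : ℕ} (hx : x ^ (2 ^ a) = 1)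
    (hxR : x ∈ Subgroup.normalizer ((R : Subgroup G) : Set G)) : x ∈ R := by
  have : Fact (Nat.Prime 2) := ⟨Nat.prime_two⟩
  obtain ⟨b, -, hb⟩ := (Nat.dvd_prime_pow Nat.prime_two).1 (orderOf_dvd_of_pow_eq_one hx)
  have hQ : IsPGroup 2 (Subgroup.zpowers x) :=
    IsPGroup.of_card (n := b) (by rw [Nat.card_zpowers, hb])
  have h1 : x ∈ Subgroup.zpowers x ⊓ Subgroup.normalizer ((R : Subgroup G) : Set G) :=
    ⟨Subgroup.mem_zpowers x, hxR⟩
  rw [show Subgroup.zpowers x ⊓ Subgroup.normalizer ((R : Subgroup G) : Set G) =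
    Subgroup.zpowers x ⊓ R from hQ.inf_normalizer_sylow R] at h1
  exact h1.2

/-- If the elements of odd order normalising `R` lie in `Z` then `N(R) ≤ R ⊔ Z`. -/
theorem normalizer_le_sup (R : Sylow 2 G) (Z : Subgroup G)
    (h : ∀ x ∈ Subgroup.normalizer ((R : Subgroup G) : Set G), Odd (orderOf x) → x ∈ Z) :
    Subgroup.normalizer ((R : Subgroup G) : Set G) ≤ (R : Subgroup G) ⊔ Z := by
  intro x hx
  obtain ⟨a, b, hb, hab⟩ := Nat.exists_eq_two_pow_mul_odd (orderOf_pos x).ne'
  have h1 : x ^ b ∈ (R : Subgroup G) := mem_of_two_element R (a := a)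
    (by rw [← pow_mul, mul_comm, ← hab, pow_orderOf_eq_one]) (pow_mem hx _)
  have h2 : x ^ (2 ^ a) ∈ Z := by
    refine h _ (pow_mem hx _) ?_
    rw [orderOf_pow_of_dvd (pow_ne_zero _ two_ne_zero) (hab ▸ Dvd.intro _ rfl), hab,
      Nat.mul_div_cancel_left _ (pow_pos two_pos a)]
    exact hb
  obtain ⟨u, v, huv⟩ : IsCoprime (b : ℤ) ((2 ^ a : ℕ) : ℤ) :=
    Nat.Coprime.isCoprime ((Nat.coprime_two_left.2 hb).pow_left a).symm
  have e : x = (x ^ b) ^ u * (x ^ (2 ^ a)) ^ v := by
    rw [← zpow_natCast x b, ← zpow_natCast x (2 ^ a), ← zpow_mul, ← zpow_mul, ← zpow_add, mul_comm _ u,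
      mul_comm _ v, huv, zpow_one]
  rw [e]
  exact Subgroup.mul_mem_sup (zpow_mem h1 u) (zpow_mem h2 v)

end Cfsg.Agent.Classical.OddIndex
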