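import Mathlib
import Cfsg.Agent.Lib.Classical.OddIndex.Criterion
import Cfsg.Agent.SimpleFacts.SLBlocks.Basic

/-!
# Overgroups of the upper unitriangular group in characteristic 2
-/

set_option autoImplicit false
set_option linter.unusedSectionVars false

namespace Cfsg.Agent.Classical.OddIndex.EvenCore

open Matrix
open Cfsg.Agent.SimpleFacts.SLBlocks Cfsg.Agent.AutPSL.Roots

variable {F : Type*} [Field F] [Fintype F] {n : ℕ}

local notation "SL" => Matrix.SpecialLinearGroup (Fin n) F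

/-- The weighted sum which decreases when an inversion is removed. -/
def weight (π : Equiv.Perm (Fin n)) : ℕ := ∑ i : Fin n, (n - (i : ℕ)) * (π i : ℕ)

/-- The diagonal matrices in a subgroup. -/
def diag (G : Subgroup (Matrix.SpecialLinearGroup (Fin n) F)) :
    Subgroup (Matrix.SpecialLinearGroup (Fin n) F) where
  carrier := {g | g ∈ G ∧ IsMono g 1}
  one_mem' := ⟨one_mem _, isMono_one⟩
  mul_mem' := fun {a b} ha hb => ⟨mul_mem ha.1 hb.1, by simpa using ha.2.mul hb.2⟩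
  inv_mem' := fun {a} ha => ⟨inv_mem ha.1, by simpa using ha.2.inv⟩

theorem diag_comm {a b : SL} (ha : IsMono a 1) (hb : IsMono b 1) : a * b = b * a := by
  refine Matrix.SpecialLinearGroup.ext _ _ fun i j => ?_
  have h1 := ha.mul_apply b i j
  have h2 := ha.apply_mul b i j
  simp only [Equiv.Perm.coe_one, id_eq] at h1 h2
  rw [h1, h2]
  by_cases h : i = j
  · subst h; rw [mul_comm]
  · rw [hb i j (by simpa using h), mul_zero, zero_mul]

theorem diag_conj_mem_U {t u : SL} (ht : IsMono t 1) (hu : u ∈ unitriSL (n := n) (F := F)) :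
    t * u * t⁻¹ ∈ unitriSL (n := n) (F := F) := by
  constructor
  · intro i j hij
    have h := ht.conj_apply u i j
    simp only [Equiv.Perm.coe_one, id_eq] at h
    rw [hu.1 i j hij, mul_zero] at h
    exact (mul_eq_zero.1 h).resolve_right (ht.ent_ne j)
  · intro i
    have h := ht.conj_apply u i i
    simp only [Equiv.Perm.coe_one, id_eq] at h
    rw [hu.2 i, mul_one] at h
    exact mul_right_cancel₀ (ht.ent_ne i) (h.trans (one_mul _).symm)

theorem odd_orderOf_diag {t : SL} (ht : IsMono t 1) :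
    t ^ (Fintype.card F - 1) = 1 := by
  have hp : ∀ k : ℕ, IsMono (t ^ k) (1 : Equiv.Perm (Fin n)) ∧
      ∀ j, ((t ^ k : SL) : Matrix (Fin n) (Fin n) F) j j = ((t : Matrix (Fin n) (Fin n) F) j j) ^ k := by
    intro k
    induction k with
    | zero => exact ⟨by simpa using isMono_one, fun j => by simp⟩
    | succ k ih =>
      refine ⟨by rw [pow_succ]; simpa using ih.1.mul ht, fun j => ?_⟩
      have h := ht.apply_mul (t ^ k) j j
      simp only [Equiv.Perm.coe_one, id_eq, ent] at h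
      rw [pow_succ, h, ih.2, pow_succ]
  refine Matrix.SpecialLinearGroup.ext _ _ fun i j => ?_
  by_cases h : i = j
  · subst h
    rw [(hp _).2, Matrix.SpecialLinearGroup.coe_one, Matrix.one_apply_eq]
    exact FiniteField.pow_card_sub_one_eq_one _ (by simpa [ent] using ht.ent_ne i)
  · rw [(hp _).1 i j (by simpa using h), Matrix.SpecialLinearGroup.coe_one, Matrix.one_apply_ne h]

/-- The properties of a group of matrices used in the argument. -/
structure Data (G : Subgroup (Matrix.SpecialLinearGroup (Fin n) F)) : Prop where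
  bruhat : ∀ g ∈ G, ∃ u ∈ G ⊓ unitriSL, ∃ (π : Equiv.Perm (Fin n)) (m : Matrix.SpecialLinearGroup (Fin n) F),
    IsMono m π ∧ ∃ u' ∈ G ⊓ unitriSL, g = u * m * u'
  step : ∀ m ∈ G, ∀ π : Equiv.Perm (Fin n), IsMono m π → π ≠ 1 →
    (∃ x ∈ G ⊓ unitriSL, m * x * m⁻¹ ∉ unitriSL) ∧
      ∃ (π' : Equiv.Perm (Fin n)) (w : Matrix.SpecialLinearGroup (Fin n) F),
        w ∈ G ∧ IsMono (w⁻¹ * m) π' ∧ weight π' < weight π ∧
          ∀ t ∈ diag G, t * w * t⁻¹ ∈ (G ⊓ unitriSL) ⊔ (G ⊓ unitriSL).map (MulAut.conj m).toMonoidHom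

variable {G : Subgroup (Matrix.SpecialLinearGroup (Fin n) F)}

theorem conj_mem (hD : Data G) {H : Subgroup SL} (hHG : H ≤ G) (hH : G ⊓ unitriSL ≤ H)
    {t : SL} (ht : t ∈ diag G) : ∀ h ∈ H, t * h * t⁻¹ ∈ H := by
  have key : ∀ N : ℕ, ∀ m : SL, ∀ π, IsMono m π → weight π ≤ N → m ∈ H → t * m * t⁻¹ ∈ H := by
    intro N
    induction N using Nat.strong_induction_on with
    | _ N ih =>
      intro m π hm hN hmH
      by_cases hπ : π = 1
      · subst hπ
        rwa [diag_comm ht.2 hm, mul_inv_cancel_right]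
      · obtain ⟨-, π', w, -, hw, hlt, hwt⟩ := hD.step m (hHG hmH) π hm hπ
        have hle : (G ⊓ unitriSL) ⊔ (G ⊓ unitriSL).map (MulAut.conj m).toMonoidHom ≤ H := by
          refine sup_le hH ?_
          rintro _ ⟨x, hx, rfl⟩
          exact mul_mem (mul_mem hmH (hH hx)) (inv_mem hmH)
        have hwH : w ∈ H := by simpa using hle (hwt 1 (one_mem _))
        have h1 := ih (weight π') (lt_of_lt_of_le hlt hN) _ π' hw le_rfl (mul_mem (inv_mem hwH) hmH)
        have h2 := mul_mem (hle (hwt t ht)) h1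
        rwa [show t * w * t⁻¹ * (t * (w⁻¹ * m) * t⁻¹) = t * m * t⁻¹ by group] at h2
  intro h hh
  obtain ⟨u, hu, π, m, hm, u', hu', rfl⟩ := hD.bruhat h (hHG hh)
  have hmH : m ∈ H := by
    have := mul_mem (mul_mem (inv_mem (hH hu)) hh) (inv_mem (hH hu'))
    rwa [show u⁻¹ * (u * m * u') * u'⁻¹ = m by group] at this
  have hconj : ∀ v ∈ G ⊓ unitriSL, t * v * t⁻¹ ∈ H := fun v hv =>
    hH ⟨G.mul_mem (G.mul_mem ht.1 hv.1) (G.inv_mem ht.1), diag_conj_mem_U ht.2 hv.2⟩
  rw [show t * (u * m * u') * t⁻¹ = t * u * t⁻¹ * (t * m * t⁻¹) * (t * u' * t⁻¹) by group]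
  exact mul_mem (mul_mem (hconj u hu) (key _ m π hm le_rfl hmH)) (hconj u' hu')

theorem normalizer_decomp (hD : Data G) {g : SL} (hg : g ∈ G)
    (hn : ∀ x ∈ G ⊓ unitriSL, g * x * g⁻¹ ∈ G ⊓ unitriSL) :
    ∃ u ∈ G ⊓ unitriSL, ∃ t ∈ diag G, g = u * t := by
  obtain ⟨u, hu, π, m, hm, u', hu', rfl⟩ := hD.bruhat g hg
  have hmG : m ∈ G := by
    have := G.mul_mem (G.mul_mem (G.inv_mem hu.1) hg) (G.inv_mem hu'.1)
    rwa [show u⁻¹ * (u * m * u') * u'⁻¹ = m by group] at this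
  have hmn : ∀ x ∈ G ⊓ unitriSL, m * x * m⁻¹ ∈ G ⊓ unitriSL := by
    intro x hx
    have h := hn (u'⁻¹ * x * u') (mul_mem (mul_mem (inv_mem hu') hx) hu')
    have h' := mul_mem (mul_mem (inv_mem hu) h) hu
    rwa [show u⁻¹ * (u * m * u' * (u'⁻¹ * x * u') * (u * m * u')⁻¹) * u = m * x * m⁻¹ by group] at h'
  by_cases hπ : π = 1
  · subst hπ
    refine ⟨u * (m * u' * m⁻¹), mul_mem hu (hmn u' hu'), m, ⟨hmG, hm⟩, ?_⟩
    group
  · obtain ⟨⟨x, hx, hxn⟩, -⟩ := hD.step m hmG π hm hπ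
    exact absurd (hmn x hx).2 hxn

theorem isPGroup_U (h2 : CharP F 2) (hn : 1 ≤ n) : IsPGroup 2 (G ⊓ unitriSL : Subgroup SL) := by
  obtain ⟨a, -, hF⟩ := FiniteField.card F 2
  refine IsPGroup.to_le ?_ inf_le_right
  exact IsPGroup.of_card (n := (a : ℕ) * ∑ i : Fin n, (i : ℕ)) (by rw [card_U hn, hF, pow_mul])

theorem conj_mem_map {G' : Type*} [Group G'] {K : Subgroup G'} {c x : G'} :
    x ∈ K.map (MulAut.conj c).toMonoidHom ↔ c⁻¹ * x * c ∈ K := by
  rw [Subgroup.mem_map]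
  constructor
  · rintro ⟨y, hy, rfl⟩
    simpa [mul_assoc] using hy
  · intro h
    exact ⟨_, h, by simp [mul_assoc]⟩

/-- In characteristic 2 all subgroups of odd index are pronormal. -/
theorem isPronormal (hD : Data G) (h2 : CharP F 2) (hn : 1 ≤ n) (H : Subgroup G) (hH : Odd H.index) :
    Cfsg.IsPronormal H := by
  have : Fact (Nat.Prime 2) := ⟨Nat.prime_two⟩
  have heven : Even (Fintype.card F) := by
    obtain ⟨a, -, hF⟩ := FiniteField.card F 2
    rw [hF]
    exact (Nat.even_pow).2 ⟨even_two, a.ne_zero⟩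
  have hodd : Odd (Fintype.card F - 1) := Nat.Even.sub_odd Fintype.card_pos heven odd_one
  set U0 : Subgroup G := (G ⊓ unitriSL).subgroupOf G with hU0
  have hU2 : IsPGroup 2 U0 :=
    (isPGroup_U h2 hn).comap_of_injective G.subtype G.subtype_injective
  have hU0mem : ∀ x : G, x ∈ U0 ↔ (x : SL) ∈ unitriSL (n := n) (F := F) := fun x => by
    rw [hU0, Subgroup.mem_subgroupOf, Subgroup.mem_inf]
    exact ⟨fun h => h.2, fun h => ⟨x.2, h⟩⟩
  have hdec : ∀ g : G, g ∈ Subgroup.normalizer (U0 : Set G) →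
      ∃ u ∈ U0, ∃ t ∈ diag G, (g : SL) = u * t := by
    intro g hg
    obtain ⟨u, hu, t, ht, e⟩ := normalizer_decomp hD g.2 (fun x hx => ⟨G.mul_mem (G.mul_mem g.2 hx.1)
      (G.inv_mem g.2), (hU0mem _).1 ((Subgroup.mem_normalizer_iff.1 hg ⟨x, hx.1⟩).1 ((hU0mem _).2 hx.2))⟩)
    exact ⟨⟨u, hu.1⟩, (hU0mem _).2 hu.2, t, ht, e⟩
  -- `U0` is a Sylow subgroup
  obtain ⟨P, hP⟩ := hU2.exists_le_sylow
  have hPU : (P : Subgroup G) = U0 := by
    refine (Classical.byContradiction fun hne => ?_)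
    have hlt : U0.subgroupOf (P : Subgroup G) < ⊤ := lt_top_iff_ne_top.2 fun h =>
      hne (le_antisymm (Subgroup.subgroupOf_eq_top.1 h) hP)
    haveI : Group.IsNilpotent (P : Subgroup G) := P.2.isNilpotent
    have hnc := Group.normalizerCondition_of_isNilpotent _ hlt
    obtain ⟨g, hgN, hgU⟩ := SetLike.exists_of_lt hnc
    rw [Subgroup.mem_subgroupOf] at hgU
    have hgN' : (g : G) ∈ Subgroup.normalizer (U0 : Set G) := by
      refine Subgroup.mem_normalizer_iff.2 fun x => ?_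
      constructor
      · intro hx
        exact (Subgroup.mem_normalizer_iff.1 hgN ⟨x, hP hx⟩).1 hx
      · intro hx
        have hxP : x ∈ (P : Subgroup G) := by
          have := (P : Subgroup G).mul_mem ((P : Subgroup G).mul_mem (inv_mem g.2) (hP hx)) g.2
          rwa [show (g : G)⁻¹ * ((g : G) * x * (g : G)⁻¹) * g = x by group] at this
        exact (Subgroup.mem_normalizer_iff.1 hgN ⟨x, hxP⟩).2 hx
    obtain ⟨u, hu, t, ht, e⟩ := hdec g hgN'
    have htG : (⟨t, ht.1⟩ : G) = (u : G)⁻¹ * g := Subtype.ext (by simp [e])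
    have htP : (⟨t, ht.1⟩ : G) ∈ (P : Subgroup G) := htG ▸ mul_mem (inv_mem (hP hu)) g.2
    obtain ⟨k, hk⟩ := IsPGroup.iff_orderOf.1 P.2 ⟨_, htP⟩
    rw [Subgroup.orderOf_mk, Subgroup.orderOf_mk] at hk
    have hd : orderOf t ∣ Fintype.card F - 1 :=
      orderOf_dvd_of_pow_eq_one (odd_orderOf_diag ht.2)
    rw [hk] at hd
    rcases Nat.eq_zero_or_pos k with rfl | hk0
    · rw [pow_zero, orderOf_eq_one_iff] at hk
      apply hgU
      have : (g : G) = u := Subtype.ext (by rw [e, hk, mul_one])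
      rw [this]; exact hu
    · exact Nat.not_even_iff_odd.2 hodd (even_iff_two_dvd.2 ((dvd_pow_self 2 hk0.ne').trans hd))
  refine of_normalizer_le H hH fun R hR g hg => ?_
  obtain ⟨c, hc⟩ := MulAction.exists_smul_eq G P R
  have hRc : (R : Subgroup G) = U0.map (MulAut.conj c).toMonoidHom := by rw [← hc, ← hPU]; rfl
  set H' : Subgroup SL := (H.map (MulAut.conj c⁻¹).toMonoidHom).map G.subtype with hH'
  have hH'G : H' ≤ G := Subgroup.map_subtype_le _
  have hH'mem : ∀ x : G, (x : SL) ∈ H' ↔ c * x * c⁻¹ ∈ H := fun x => by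
    rw [hH', show (x : SL) = G.subtype x from rfl, Subgroup.mem_map_iff_mem G.subtype_injective,
      conj_mem_map, inv_inv]
  have hUH' : G ⊓ unitriSL ≤ H' := by
    intro x hx
    refine (hH'mem ⟨x, hx.1⟩).2 (hR ?_)
    rw [hRc, conj_mem_map]
    refine (hU0mem _).2 ?_
    simpa [mul_assoc] using hx.2
  have hg' : c⁻¹ * g * c ∈ Subgroup.normalizer (U0 : Set G) := by
    refine Subgroup.mem_normalizer_iff.2 fun x => ?_
    have h1 := Subgroup.mem_normalizer_iff.1 hg (c * x * c⁻¹)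
    rw [hRc, conj_mem_map, conj_mem_map] at h1
    simpa [mul_assoc] using h1
  obtain ⟨u, hu, t, ht, e⟩ := hdec _ hg'
  have hn : ((c⁻¹ * g * c : G) : SL) ∈ Subgroup.normalizer (H' : Set SL) := by
    rw [e]
    refine mul_mem (Subgroup.le_normalizer (hUH' ⟨u.2, (hU0mem _).1 hu⟩)) ?_
    refine Subgroup.mem_normalizer_iff.2 fun x => ⟨conj_mem hD hH'G hUH' ht x, fun hx => ?_⟩
    have := conj_mem hD hH'G hUH' (inv_mem ht) _ hx
    simpa [mul_assoc] using this
  refine Subgroup.mem_normalizer_iff.2 fun x => ?_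
  have h2' := Subgroup.mem_normalizer_iff.1 hn ((c⁻¹ * x * c : G) : SL)
  rw [← Subgroup.coe_inv, ← Subgroup.coe_mul, ← Subgroup.coe_mul, hH'mem, hH'mem] at h2'
  simpa [mul_assoc] using h2'

end Cfsg.Agent.Classical.OddIndex.EvenCore
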