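import Mathlib
import Cfsg.Agent.Lib.Classical.OddIndex.EvenCore

/-!
# Odd index subgroups of `SL_n` in characteristic 2
-/

set_option autoImplicit false
set_option linter.unusedSectionVars false

namespace Cfsg.Agent.Classical.OddIndex.EvenSL

open Matrix
open Cfsg.Agent.SimpleFacts.SLBlocks Cfsg.Agent.AutPSL.Roots EvenCore

variable {F : Type*} [Field F] [Fintype F] {n : ℕ}

local notation "SL" => Matrix.SpecialLinearGroup (Fin n) F
local notation "tr" => Matrix.SpecialLinearGroup.transvection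

theorem exists_inversion {π : Equiv.Perm (Fin n)} (hπ : π ≠ 1) :
    ∃ a b : Fin n, a < b ∧ (π a : ℕ) = π b + 1 := by
  rcases n with _ | k
  · exact absurd (Equiv.ext fun i => i.elim0) hπ
  have h : ¬ StrictMono (⇑π⁻¹) := fun h => hπ (inv_eq_one.1 (eq_one_of_monotone h))
  rw [Fin.strictMono_iff_lt_succ] at h
  push Not at h
  obtain ⟨i, hi⟩ := h
  refine ⟨π⁻¹ i.succ, π⁻¹ i.castSucc, lt_of_le_of_ne hi fun e => ?_, ?_⟩
  · exact (Fin.castSucc_lt_succ (i := i)).ne' (π⁻¹.injective e)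
  · simp

theorem weight_swap_lt {π : Equiv.Perm (Fin n)} {a b : Fin n} (hab : a < b)
    (h : (π a : ℕ) = π b + 1) : weight (Equiv.swap (π b) (π a) * π) < weight π := by
  classical
  unfold weight
  rw [← Finset.sum_add_sum_compl ({a, b} : Finset (Fin n))]
  rw [← Finset.sum_add_sum_compl ({a, b} : Finset (Fin n)) (fun i : Fin n => (n - (i : ℕ)) * (π i : ℕ))]
  refine add_lt_add_of_lt_of_le ?_ (le_of_eq (Finset.sum_congr rfl fun i hi => ?_))
  · rw [Finset.sum_pair hab.ne, Finset.sum_pair hab.ne]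
    simp only [Equiv.Perm.mul_apply, Equiv.swap_apply_right, Equiv.swap_apply_left, h]
    have h1 := Fin.lt_def.1 hab
    have h2 := b.isLt
    obtain ⟨d, hd⟩ : ∃ d, n - (a : ℕ) = n - (b : ℕ) + (d + 1) := ⟨(b : ℕ) - a - 1, by omega⟩
    rw [hd]
    ring_nf
    omega
  · simp only [Finset.mem_compl, Finset.mem_insert, Finset.mem_singleton, not_or] at hi
    rw [Equiv.Perm.mul_apply, Equiv.swap_apply_of_ne_of_ne (π.injective.ne hi.2) (π.injective.ne hi.1)]

/-- The representative of a transposition. -/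
def flip {p r : Fin n} (h : p ≠ r) : SL := tr h 1 * tr h.symm (-1) * tr h 1

theorem isMono_flip {p r : Fin n} (h : p ≠ r) : IsMono (flip (F := F) h) (Equiv.swap p r) := by
  intro i j hij
  simp only [flip, mul_tr_apply, tr_apply]
  rw [Equiv.swap_apply_def] at hij
  have h' := h.symm
  by_cases j1 : j = p <;> by_cases j2 : j = r <;> by_cases i1 : i = p <;> by_cases i2 : i = r <;>
    simp_all [eq_comm]

theorem conj_tr_eq {m : SL} {π : Equiv.Perm (Fin n)} (hm : IsMono m π) {a b p r : Fin n} (hab : a ≠ b)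
    (hpr : p ≠ r) (hp : π a = p) (hr : π b = r) (t : F) :
    m * tr hab (t * ent m π b / ent m π a) * m⁻¹ = tr hpr t := by
  subst hp hr
  rw [hm.conj_tr, mul_inv_cancel_right]
  congr 1
  have h1 := hm.ent_ne a
  have h2 := hm.ent_ne b
  field_simp

theorem diag_conj_tr {t : SL} (ht : IsMono t 1) {p r : Fin n} (h : p ≠ r) (x : F) :
    t * tr h x * t⁻¹ = tr h (ent t 1 p * x / ent t 1 r) := by
  rw [ht.conj_tr, mul_inv_cancel_right]
  rfl

theorem data : Data (⊤ : Subgroup (Matrix.SpecialLinearGroup (Fin n) F)) where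
  bruhat := fun g _ => by
    obtain ⟨u, hu, π, m, hm, u', hu', e⟩ := exists_bruhat g
    exact ⟨u, ⟨trivial, hu⟩, π, m, hm, u', ⟨trivial, hu'⟩, e⟩
  step := fun m _ π hm hπ => by
    obtain ⟨a, b, hab, h⟩ := exists_inversion hπ
    have hpr : π b ≠ π a := π.injective.ne hab.ne'
    have hlt : π b < π a := Fin.lt_def.2 (by omega)
    refine ⟨⟨tr hab.ne (1 * ent m π b / ent m π a), ⟨trivial, tr_mem_U _ _ hab⟩, fun hx => ?_⟩,
      Equiv.swap (π b) (π a) * π, flip hpr, trivial, ?_, weight_swap_lt hab h, fun t ht => ?_⟩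
    · rw [conj_tr_eq hm hab.ne hpr.symm rfl rfl] at hx
      have h1 := hx.1 _ _ hlt
      rw [tr_apply, if_neg hpr.symm, if_pos ⟨rfl, rfl⟩, zero_add] at h1
      exact one_ne_zero h1
    · simpa using (isMono_flip hpr).inv.mul hm
    · set K := ((⊤ : Subgroup SL) ⊓ unitriSL) ⊔
        ((⊤ : Subgroup SL) ⊓ unitriSL).map (MulAut.conj m).toMonoidHom
      have h1 : ∀ x : F, t * tr hpr x * t⁻¹ ∈ K := fun x => by
        rw [diag_conj_tr ht.2]
        exact Subgroup.mem_sup_left ⟨trivial, tr_mem_U _ _ hlt⟩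
      have h2 : ∀ x : F, t * tr hpr.symm x * t⁻¹ ∈ K := fun x => by
        rw [diag_conj_tr ht.2, ← conj_tr_eq hm hab.ne hpr.symm rfl rfl]
        exact Subgroup.mem_sup_right ⟨_, ⟨trivial, tr_mem_U _ _ hab⟩, rfl⟩
      rw [flip, show t * (tr hpr 1 * tr hpr.symm (-1) * tr hpr 1) * t⁻¹ = (t * tr hpr 1 * t⁻¹) *
        (t * tr hpr.symm (-1) * t⁻¹) * (t * tr hpr 1 * t⁻¹) by group]
      exact mul_mem (mul_mem (h1 _) (h2 _)) (h1 _)

/-- The odd index subgroups of `SL_n(F)` are pronormal in characteristic 2. -/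
theorem isPronormal (h2 : CharP F 2) (hn : 1 ≤ n) (H : Subgroup SL) (hH : Odd H.index) :
    Cfsg.IsPronormal H := by
  let e : (⊤ : Subgroup SL) ≃* SL := Subgroup.topEquiv
  refine of_surjective e.toMonoidHom e.surjective
    (fun K _ hK => EvenCore.isPronormal data h2 hn K hK) H hH

end Cfsg.Agent.Classical.OddIndex.EvenSL
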