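import Mathlib
import Cfsg.Agent.Lib.Classical.OddIndex.EvenSL
import Cfsg.Agent.Lib.Classical.UnitarySimple

/-!
# Odd index subgroups of `SU_n`, `n` even, in characteristic 2
-/

set_option autoImplicit false
set_option linter.unusedSectionVars false
set_option linter.unusedSimpArgs false

namespace Cfsg.Agent.Classical.OddIndex.EvenSU

open Matrix
open Cfsg.Agent.SimpleFacts.SLBlocks Cfsg.Agent.AutPSL.Roots EvenCore EvenSL
open Cfsg.Agent.Classical

variable {F : Type*} [Field F] {q n : ℕ}

local notation "SL" => Matrix.SpecialLinearGroup (Fin n) F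
local notation "Vec" => (Fin n → F)
local notation "Mat" => Matrix (Fin n) (Fin n) F

/-- The hermitian form which pairs each index with the reversed one. -/
def B (q : ℕ) (u v : Fin n → F) : F := Cfsg.hermForm n F q u (fun i => v i.rev)

/-- The special unitary group of `B`. -/
def SUB (n : ℕ) (F : Type*) [Field F] (q : ℕ) : Subgroup (Matrix.SpecialLinearGroup (Fin n) F) :=
  Cfsg.preserving (Cfsg.slToMat n F) (B q)

theorem mem_SUB {g : SL} : g ∈ SUB n F q ↔ ∀ u v : Vec, B q ((g : Mat) *ᵥ u) ((g : Mat) *ᵥ v) = B q u v :=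
  Iff.rfl

theorem B_add_left (x y z : Vec) : B q (x + y) z = B q x z + B q y z := Unitary.H_add_left x y _

theorem B_smul_left (a : F) (x z : Vec) : B q (a • x) z = a * B q x z := Unitary.H_smul_left a x _

theorem B_smul_right (a : F) (x z : Vec) : B q x (a • z) = a ^ q * B q x z :=
  Unitary.H_smul_right a x (fun i => z i.rev)

theorem B_eq_sum (x y : Vec) : B q x y = ∑ i, x i * y i.rev ^ q := rfl

theorem single_rev (i : Fin n) :
    (fun j => (Pi.single i 1 : Vec) j.rev) = (Pi.single i.rev 1 : Vec) := by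
  funext j
  by_cases h : j.rev = i
  · subst h; simp
  · rw [Pi.single_eq_of_ne h, Pi.single_eq_of_ne]
    exact fun e => h (by rw [e, Fin.rev_rev])

/-- The indices treated after `k` steps. -/
def Done (k : ℕ) (d : Fin n) : Prop := (d : ℕ) < k ∨ (d.rev : ℕ) < k

theorem rev_ne (hn : Even n) (i : Fin n) : i.rev ≠ i := by
  intro e
  have := congrArg Fin.val e
  rw [Fin.val_rev] at this
  obtain ⟨m, rfl⟩ := hn
  omega

variable [Fintype F] (hF : Fintype.card F = q ^ 2)

include hF

theorem B_add_right (x y z : Vec) : B q x (y + z) = B q x y + B q x z :=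
  Unitary.H_add_right hF x (fun i => y i.rev) (fun i => z i.rev)

theorem B_single_right (x : Vec) (i : Fin n) : B q x (Pi.single i 1) = x i.rev := by
  rw [B, single_rev, Unitary.H_single_right hF]

theorem B_conj (x y : Vec) : B q x y ^ q = B q y x := by
  rw [B, Unitary.H_conj hF]
  refine (Fintype.sum_equiv Fin.revPerm _ _ fun i => ?_)
  simp [Fin.revPerm]

theorem B_single_left (x : Vec) (i : Fin n) : B q (Pi.single i 1) x = x i.rev ^ q := by
  rw [← B_conj hF, B_single_right hF]

/-- The entries of a unitary matrix. -/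
theorem col_B {g : SL} (hg : g ∈ SUB n F q) (a b : Fin n) :
    B q (fun i => (g : Mat) i a) (fun i => (g : Mat) i b) = if b = a.rev then 1 else 0 := by
  have h := mem_SUB.1 hg (Pi.single a 1) (Pi.single b 1)
  rw [Matrix.mulVec_single_one, Matrix.mulVec_single_one, B_single_right hF] at h
  refine h.trans ?_
  by_cases e : b = a.rev
  · subst e; simp
  · rw [if_neg e, Pi.single_eq_of_ne]
    exact fun e' => e (by rw [← e', Fin.rev_rev])

omit hF in
/-- A unitary transformation moving `e_r`. -/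
def eichler (q : ℕ) (r : Fin n) (w : Fin n → F) (c : F) : Matrix (Fin n) (Fin n) F :=
  Matrix.of fun i j => (if i = j then 1 else 0) + (if j = r then w i + (if i = r.rev then c else 0) else 0) +
    (if i = r.rev then w j.rev ^ q else 0)

omit hF in
theorem eichler_mulVec (r : Fin n) (w : Vec) (c : F) (x : Vec) :
    eichler q r w c *ᵥ x = x + x r • (w + c • Pi.single r.rev 1) + B q x w • Pi.single r.rev 1 := by
  funext i
  simp only [eichler, Matrix.mulVec, dotProduct, Matrix.of_apply, add_mul, Finset.sum_add_distrib,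
    ite_mul, one_mul, zero_mul, Finset.sum_ite_eq, Finset.sum_ite_eq', Finset.mem_univ, if_true,
    Pi.add_apply, Pi.smul_apply, smul_eq_mul, B_eq_sum]
  by_cases h : i = r.rev
  · subst h
    simp only [if_true, Pi.single_eq_same, mul_one]
    congr 1
    · ring
    · exact Finset.sum_congr rfl fun j _ => mul_comm _ _
  · simp only [if_neg h, Pi.single_eq_of_ne h, Finset.sum_const_zero, add_zero, mul_zero,
      zero_mul]
    ring

theorem eichler_preserves (h2 : (2 : F) = 0) (hn : Even n) (r : Fin n) (w : Vec) (c : F)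
    (hwr : w r = 0) (hc : c + c ^ q + B q w w = 0) (x y : Vec) :
    B q (eichler q r w c *ᵥ x) (eichler q r w c *ᵥ y) = B q x y := by
  have hq : q ≠ 0 := Unitary.q_ne_zero hF
  have hcj : (B q y w) ^ q = B q w y := B_conj hF y w
  have hse : (Pi.single r.rev 1 : Vec) r = 0 := Pi.single_eq_of_ne (rev_ne hn r).symm _
  simp only [eichler_mulVec, B_add_left, B_add_right hF, B_smul_left, B_smul_right, smul_add,
    smul_smul, B_single_right hF, B_single_left hF, Fin.rev_rev, hwr, hse, mul_pow, hcj,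
    zero_pow hq, mul_zero, zero_mul, add_zero, zero_add, Pi.add_apply, Pi.smul_apply, smul_eq_mul]
  linear_combination (x r * y r ^ q) * hc + (y r ^ q * B q x w + x r * B q w y) * h2

theorem eichler_mem_U (r : Fin n) (w : Vec) (c : F) (hn : Even n)
    (hw : ∀ i, w i ≠ 0 → i < r ∧ i ≠ r.rev) (hc : c ≠ 0 → r.rev < r) :
    (∀ i j : Fin n, j < i → eichler q r w c i j = 0) ∧ ∀ i, eichler q r w c i i = 1 := by
  have hq : q ≠ 0 := Unitary.q_ne_zero hF
  have hwr : w r = 0 := by
    by_contra h
    exact (lt_irrefl r) (hw r h).1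
  constructor
  · intro i j hji
    simp only [eichler, Matrix.of_apply, if_neg hji.ne', zero_add]
    have t1 : (if j = r then w i + (if i = r.rev then c else 0) else 0) = 0 := by
      by_cases hj : j = r
      · subst hj
        have hwi : w i = 0 := by
          by_contra h
          exact lt_asymm hji (hw i h).1
        rw [if_pos rfl, hwi, zero_add]
        by_cases hi : i = j.rev
        · rw [if_pos hi]
          by_contra h
          exact lt_asymm hji (hi ▸ hc h)
        · rw [if_neg hi]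
      · rw [if_neg hj]
    have t2 : (if i = r.rev then w j.rev ^ q else 0) = 0 := by
      by_cases hi : i = r.rev
      · rw [if_pos hi, pow_eq_zero_iff hq]
        by_contra h
        have h1 := (hw _ h).1
        rw [← Fin.rev_lt_rev, Fin.rev_rev, ← hi] at h1
        exact lt_asymm hji h1
      · rw [if_neg hi]
    rw [t1, t2, add_zero]
  · intro i
    simp only [eichler, Matrix.of_apply, if_true]
    have t1 : (if i = r then w i + (if i = r.rev then c else 0) else 0) = 0 := by
      by_cases hi : i = r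
      · subst hi
        rw [if_pos rfl, hwr, if_neg (rev_ne hn i).symm, add_zero]
      · rw [if_neg hi]
    have t2 : (if i = r.rev then w i.rev ^ q else 0) = 0 := by
      by_cases hi : i = r.rev
      · rw [if_pos hi, hi, Fin.rev_rev, hwr, zero_pow hq]
      · rw [if_neg hi]
    rw [t1, t2, add_zero, add_zero]

/-- Clearing an isotropic vector above its last non-zero entry. -/
theorem exists_clear (h2 : (2 : F) = 0) (hn : Even n) (v : Vec) (hv : B q v v = 0) (r : Fin n)
    (hr : v r ≠ 0) (hmax : ∀ i, r < i → v i = 0) :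
    ∃ u ∈ SUB n F q ⊓ unitriSL, (u : Mat) *ᵥ v = v r • Pi.single r 1 ∧
      ∀ d : Fin n, d ≠ r → (d = r.rev ∨ v d.rev = 0) →
        (u : Mat) *ᵥ Pi.single d 1 = Pi.single d 1 := by
  have hq : q ≠ 0 := Unitary.q_ne_zero hF
  set w : Vec := fun i => if i = r ∨ i = r.rev then 0 else v i / v r with hwdef
  set c := v r.rev / v r with hcdef
  have hrr := rev_ne hn r
  have hw : ∀ i, w i ≠ 0 → i < r ∧ i ≠ r.rev := by
    intro i hi
    simp only [hwdef] at hi
    split_ifs at hi with h
    · exact absurd rfl hi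
    · push Not at h
      refine ⟨lt_of_le_of_ne (not_lt.1 fun hlt => hi ?_) h.1, h.2⟩
      rw [hmax i hlt, zero_div]
  have hc : c ≠ 0 → r.rev < r := by
    intro h
    refine lt_of_le_of_ne (not_lt.1 fun hlt => h ?_) hrr
    rw [hcdef, hmax _ hlt, zero_div]
  have hwr : w r = 0 := by simp [hwdef]
  have hwr' : w r.rev = 0 := by simp [hwdef]
  have hdec : v = v r • (Pi.single r 1 + (w + c • Pi.single r.rev 1)) := by
    funext i
    simp only [Pi.smul_apply, Pi.add_apply, smul_eq_mul, hwdef, hcdef]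
    by_cases h1 : i = r
    · subst h1
      simp [Pi.single_eq_of_ne hrr.symm]
    · by_cases h3 : i = r.rev
      · subst h3
        simp [Pi.single_eq_of_ne hrr]
        field_simp
      · simp [h1, h3, Pi.single_eq_of_ne h1, Pi.single_eq_of_ne h3]
        field_simp
  have hcc : c + c ^ q + B q w w = 0 := by
    replace hv : B q (v r • (Pi.single r 1 + (w + c • Pi.single r.rev 1)))
        (v r • (Pi.single r 1 + (w + c • Pi.single r.rev 1))) = 0 :=
      (congrArg₂ (B q) hdec.symm hdec.symm).trans hv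
    simp only [B_smul_left, B_smul_right, B_add_left, B_add_right hF, B_single_left hF,
      B_single_right hF, Pi.single_eq_same, Pi.single_eq_of_ne hrr, Pi.single_eq_of_ne hrr.symm,
      Fin.rev_rev, hwr, hwr', one_pow, zero_pow hq, mul_zero, zero_mul, add_zero, zero_add,
      mul_one, Pi.add_apply, Pi.smul_apply, smul_eq_mul] at hv
    have hne : v r * v r ^ q ≠ 0 := mul_ne_zero hr (pow_ne_zero _ hr)
    refine (mul_eq_zero.1 (?_ : (v r * v r ^ q) * (c + c ^ q + B q w w) = 0)).resolve_left hne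
    linear_combination hv
  obtain ⟨hup, hdiag⟩ := eichler_mem_U hF r w c hn hw hc
  have hdet : (eichler q r w c).det = 1 := by
    rw [Matrix.det_of_upperTriangular (fun i j h => hup i j h)]
    simp [hdiag]
  let u : SL := ⟨eichler q r w c, hdet⟩
  have huU : u ∈ SUB n F q ⊓ unitriSL :=
    ⟨fun x y => eichler_preserves hF h2 hn r w c hwr hcc x y, hup, hdiag⟩
  have hinv : ∀ x y : Vec, eichler q r w c *ᵥ x = y → ((u⁻¹ : SL) : Mat) *ᵥ y = x := by
    rintro x y rfl
    rw [Matrix.mulVec_mulVec, show eichler q r w c = ((u : SL) : Mat) from rfl,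
      ← Matrix.SpecialLinearGroup.coe_mul, inv_mul_cancel, Matrix.SpecialLinearGroup.coe_one,
      Matrix.one_mulVec]
  refine ⟨u⁻¹, inv_mem huU, hinv _ _ ?_, fun d hd hd' => hinv _ _ ?_⟩
  · rw [Matrix.mulVec_smul]
    conv_rhs => rw [hdec]
    congr 1
    rw [eichler_mulVec, Pi.single_eq_same, one_smul, B_single_left hF]
    simp [hwr', zero_pow hq]
  · have hwd : w d.rev = 0 := by
      rcases hd' with h | h
      · rw [h, Fin.rev_rev, hwr]
      · simp [hwdef, h]
    rw [eichler_mulVec, Pi.single_eq_of_ne hd.symm, zero_smul, B_single_left hF, hwd,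
      zero_pow hq, zero_smul, add_zero, add_zero]


theorem bruhat (h2 : (2 : F) = 0) (hn : Even n) {g : SL} (hg : g ∈ SUB n F q) :
    ∃ u ∈ SUB n F q ⊓ unitriSL, ∃ (π : Equiv.Perm (Fin n)) (m : SL),
      IsMono m π ∧ ∃ u' ∈ SUB n F q ⊓ unitriSL, g = u * m * u' := by
  classical
  have hq : q ≠ 0 := Unitary.q_ne_zero hF
  obtain ⟨m, hm⟩ := hn
  have hn : Even n := ⟨m, hm⟩
  have key : ∀ k ≤ m, ∃ u ∈ SUB n F q ⊓ unitriSL, ∃ u' ∈ SUB n F q ⊓ unitriSL,
      ∀ d, Done k d → ∃ p, ∀ i, i ≠ p → ((u * g * u' : SL) : Mat) i d = 0 := by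
    intro k hk
    induction k with
    | zero => exact ⟨1, one_mem _, 1, one_mem _, fun d hd => by simp [Done] at hd⟩
    | succ k ih =>
      obtain ⟨u₀, hu₀, u₀', hu₀', hdone⟩ := ih (by omega)
      set g₀ := u₀ * g * u₀' with hg₀def
      have hg₀ : g₀ ∈ SUB n F q := mul_mem (mul_mem hu₀.1 hg) hu₀'.1
      have hkn : k < n := by omega
      set k₀ : Fin n := ⟨k, hkn⟩
      have hkrev : (k₀.rev : ℕ) = n - (k + 1) := Fin.val_rev k₀
      have hk₀ : ¬ Done k k₀ := by
        rintro (h | h)
        · exact lt_irrefl _ h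
        · rw [hkrev] at h; omega
      -- the rows already used
      set row := fun i => ∃ d, Done k d ∧ (g₀ : Mat) i d ≠ 0
      have hDrev : ∀ d : Fin n, Done k d → Done k d.rev := fun d hd => by
        rcases hd with h | h
        · exact Or.inr (show ((d.rev).rev : ℕ) < k by rwa [Fin.rev_rev])
        · exact Or.inl h
      have hpart : ∀ d, Done k d → ∀ i, (g₀ : Mat) i d ≠ 0 → (g₀ : Mat) i.rev d.rev ≠ 0 ∧
          ∀ j, j ≠ i.rev → (g₀ : Mat) j d.rev = 0 := by
        intro d hd i hi
        obtain ⟨p, hp⟩ := hdone d hd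
        obtain ⟨p', hp'⟩ := hdone d.rev (hDrev d hd)
        have hip : i = p := Classical.byContradiction fun h => hi (hp i h)
        have h := col_B hF hg₀ d d.rev
        rw [if_pos rfl, B_eq_sum, Finset.sum_eq_single p (fun j _ hj => by rw [hp j hj, zero_mul])
          (by simp), ← hip] at h
        have hne : (g₀ : Mat) i.rev d.rev ≠ 0 := fun e => by
          rw [e, zero_pow hq, mul_zero] at h; exact zero_ne_one h
        have hp'' : i.rev = p' := Classical.byContradiction fun h' => hne (hp' _ h')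
        exact ⟨hne, fun j hj => hp' j (hp'' ▸ hj)⟩
      have hrowrev : ∀ i, row i → row i.rev := fun i ⟨d, hd, hi⟩ =>
        ⟨d.rev, hDrev d hd, (hpart d hd i hi).1⟩
      -- the column
      set v : Vec := fun i => (g₀ : Mat) i k₀
      have hvrow : ∀ i, row i → v i = 0 := by
        rintro i ⟨d, hd, hi⟩
        obtain ⟨hne, hoth⟩ := hpart d hd i hi
        have h := col_B hF hg₀ k₀ d.rev
        rw [if_neg (fun e => hk₀ ((Fin.rev_injective e : d = k₀) ▸ hd)), B_eq_sum,
          Finset.sum_eq_single i (fun j _ hj => by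
            rw [hoth _ (fun e => hj (Fin.rev_injective e)), zero_pow hq, mul_zero]) (by simp)] at h
        exact (mul_eq_zero.1 h).resolve_right (pow_ne_zero _ hne)
      have hviso : B q v v = 0 := by
        have h := col_B hF hg₀ k₀ k₀
        rwa [if_neg (rev_ne hn k₀).symm] at h
      have hv0 : v ≠ 0 := by
        intro e
        have h := col_B hF hg₀ k₀ k₀.rev
        rw [if_pos rfl, B_eq_sum, Finset.sum_eq_zero (fun i _ => by
          rw [show (g₀ : Mat) i k₀ = 0 from congrFun e i, zero_mul])] at h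
        exact zero_ne_one h
      obtain ⟨i₁, hi₁⟩ := Function.ne_iff.1 hv0
      obtain ⟨r, hr, hrmax⟩ := Finset.exists_max_image (Finset.univ.filter fun i => v i ≠ 0) id
        ⟨i₁, by simpa using hi₁⟩
      replace hr : v r ≠ 0 := (Finset.mem_filter.1 hr).2
      have hmax : ∀ i, r < i → v i = 0 := fun i hi => by
        by_contra h
        exact absurd (hrmax i (Finset.mem_filter.2 ⟨Finset.mem_univ _, h⟩)) (not_le.2 hi)
      have hrrow : ¬ row r := fun h => hr (hvrow r h)
      obtain ⟨a, ha, hav, hafix⟩ := exists_clear hF h2 hn v hviso r hr hmax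
      set g₁ := a * g₀ with hg₁def
      have hg₁ : g₁ ∈ SUB n F q := mul_mem ha.1 hg₀
      have hM₁ : ∀ x : Vec, (g₁ : Mat) *ᵥ x = (a : Mat) *ᵥ ((g₀ : Mat) *ᵥ x) := fun x => by
        rw [Matrix.mulVec_mulVec, ← Matrix.SpecialLinearGroup.coe_mul]
      have hcol₁ : ∀ d, Done k d → (g₁ : Mat) *ᵥ Pi.single d 1 = (g₀ : Mat) *ᵥ Pi.single d 1 := by
        intro d hd
        obtain ⟨p, hp⟩ := hdone d hd
        have e : (g₀ : Mat) *ᵥ Pi.single d 1 = (g₀ : Mat) p d • (Pi.single p 1 : Vec) := by
          funext i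
          rw [Matrix.mulVec_single_one, Pi.smul_apply, smul_eq_mul]
          by_cases hi : i = p
          · subst hi; simp
          · rw [Pi.single_eq_of_ne hi, mul_zero]; exact hp i hi
        rw [hM₁, e, Matrix.mulVec_smul]
        by_cases hp0 : (g₀ : Mat) p d = 0
        · simp [hp0]
        · have hrow : row p := ⟨d, hd, hp0⟩
          rw [hafix p (fun h => hrrow (h ▸ hrow)) (Or.inr (hvrow _ (hrowrev p hrow)))]
      have hcolk : (g₁ : Mat) *ᵥ Pi.single k₀ 1 = v r • Pi.single r 1 := by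
        rw [hM₁, Matrix.mulVec_single_one]; exact hav
      -- the row, through the inverse
      set y : Vec := ((g₁⁻¹ : SL) : Mat) *ᵥ Pi.single r.rev 1 with hydef
      have hy : ∀ i, y i = (g₁ : Mat) r i.rev ^ q := by
        intro i
        have h := mem_SUB.1 hg₁ y (Pi.single i.rev 1)
        rw [hydef, Matrix.mulVec_mulVec, ← Matrix.SpecialLinearGroup.coe_mul, mul_inv_cancel,
          Matrix.SpecialLinearGroup.coe_one, Matrix.one_mulVec, B_single_left hF, Fin.rev_rev,
          B_single_right hF, Fin.rev_rev, Matrix.mulVec_single_one, ← hydef] at h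
        exact h.symm
      have hrk : (g₁ : Mat) r k₀ = v r := by
        have := congrFun hcolk r
        rwa [Matrix.mulVec_single_one, Pi.smul_apply, Pi.single_eq_same, smul_eq_mul, mul_one] at this
      have hyk : y k₀.rev ≠ 0 := by
        rw [hy, Fin.rev_rev, hrk]; exact pow_ne_zero _ hr
      have hyD : ∀ i, Done k i → y i = 0 := by
        intro i hi
        rw [hy, pow_eq_zero_iff hq]
        have h := congrFun (hcol₁ i.rev (hDrev i hi)) r
        rw [Matrix.mulVec_single_one, Matrix.mulVec_single_one] at h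
        by_contra hne
        exact hrrow ⟨i.rev, hDrev i hi, fun e => hne (h.trans e)⟩
      have hymax : ∀ i, k₀.rev < i → y i = 0 := fun i hi => hyD i (Or.inr (by
        rw [Fin.lt_def, hkrev] at hi; rw [Fin.val_rev]; omega))
      have hyiso : B q y y = 0 := by
        rw [hydef, mem_SUB.1 (inv_mem hg₁), B_single_right hF, Fin.rev_rev,
          Pi.single_eq_of_ne (rev_ne hn r).symm]
      obtain ⟨b, hb, hby, hbfix⟩ := exists_clear hF h2 hn y hyiso k₀.rev hyk hymax
      refine ⟨a * u₀, mul_mem ha hu₀, u₀' * b⁻¹, mul_mem hu₀' (inv_mem hb), fun d hd => ?_⟩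
      have e : a * u₀ * g * (u₀' * b⁻¹) = g₁ * b⁻¹ := by rw [hg₁def, hg₀def]; group
      rw [e]
      set g₂ := g₁ * b⁻¹
      have hg₂ : g₂ ∈ SUB n F q := mul_mem hg₁ (inv_mem hb.1)
      have hfixinv : ∀ x : Vec, (b : Mat) *ᵥ x = x → ((b⁻¹ : SL) : Mat) *ᵥ x = x := fun x hx => by
        conv_lhs => rw [← hx]
        rw [Matrix.mulVec_mulVec, ← Matrix.SpecialLinearGroup.coe_mul, inv_mul_cancel,
          Matrix.SpecialLinearGroup.coe_one, Matrix.one_mulVec]
      have hM₂ : ∀ x : Vec, (g₂ : Mat) *ᵥ x = (g₁ : Mat) *ᵥ (((b⁻¹ : SL) : Mat) *ᵥ x) := fun x => by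
        rw [Matrix.mulVec_mulVec, ← Matrix.SpecialLinearGroup.coe_mul]
      have hsingle : ∀ {d : Fin n} {p : Fin n} {c : F}, (g₂ : Mat) *ᵥ Pi.single d 1 = c • Pi.single p 1 →
          ∀ i, i ≠ p → (g₂ : Mat) i d = 0 := by
        intro d p c h i hi
        have := congrFun h i
        rwa [Matrix.mulVec_single_one, Pi.smul_apply, Pi.single_eq_of_ne hi, smul_zero] at this
      have hcases : Done k d ∨ d = k₀ ∨ d = k₀.rev := by
        rcases hd with h | h
        · rcases Nat.lt_succ_iff_lt_or_eq.1 h with h | h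
          · exact Or.inl (Or.inl h)
          · exact Or.inr (Or.inl (Fin.ext h))
        · rcases Nat.lt_succ_iff_lt_or_eq.1 h with h | h
          · exact Or.inl (Or.inr h)
          · exact Or.inr (Or.inr (Fin.rev_injective (by rw [Fin.rev_rev]; exact Fin.ext h)))
      rcases hcases with hd | rfl | rfl
      · obtain ⟨p, hp⟩ := hdone d hd
        refine ⟨p, fun i hi => ?_⟩
        have h : (g₂ : Mat) *ᵥ Pi.single d 1 = (g₀ : Mat) *ᵥ Pi.single d 1 := by
          rw [hM₂, hfixinv _ (hbfix d (fun h => ?_) (Or.inr (hyD _ (hDrev d hd)))), hcol₁ d hd]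
          exact hk₀ (by have := hDrev d hd; rwa [h, Fin.rev_rev] at this)
        have h' := congrFun h i
        rw [Matrix.mulVec_single_one, Matrix.mulVec_single_one] at h'
        exact h'.trans (hp i hi)
      · refine ⟨r, hsingle (c := v r) ?_⟩
        rw [hM₂, hfixinv _ (hbfix k₀ (rev_ne hn k₀).symm (Or.inl (Fin.rev_rev k₀).symm)), hcolk]
      · refine ⟨r.rev, hsingle (c := (y k₀.rev)⁻¹) ?_⟩
        have hb' : ((b⁻¹ : SL) : Mat) *ᵥ (y k₀.rev • Pi.single k₀.rev 1) = y := by
          rw [← hby, Matrix.mulVec_mulVec, ← Matrix.SpecialLinearGroup.coe_mul, inv_mul_cancel,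
            Matrix.SpecialLinearGroup.coe_one, Matrix.one_mulVec]
        rw [Matrix.mulVec_smul] at hb'
        have : ((b⁻¹ : SL) : Mat) *ᵥ Pi.single k₀.rev 1 = (y k₀.rev)⁻¹ • y := by
          conv_rhs => arg 2; rw [← hb']
          rw [inv_smul_smul₀ hyk]
        rw [hM₂, this, Matrix.mulVec_smul, hydef, Matrix.mulVec_mulVec,
          ← Matrix.SpecialLinearGroup.coe_mul, mul_inv_cancel, Matrix.SpecialLinearGroup.coe_one,
          Matrix.one_mulVec]
  obtain ⟨u, hu, u', hu', hall⟩ := key m le_rfl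
  have hall' : ∀ d : Fin n, ∃ p, ∀ i, i ≠ p → ((u * g * u' : SL) : Mat) i d = 0 := fun d =>
    hall d (by
      unfold Done
      rw [Fin.val_rev]
      omega)
  choose p hp using hall'
  have hinj : Function.Injective p := by
    intro d d' e
    by_contra hne
    have hz : ((u * g * u' : SL) : Mat).det = 0 := by
      by_cases hz : ((u * g * u' : SL) : Mat) (p d) d = 0
      · exact Matrix.det_eq_zero_of_column_eq_zero d fun i => by
          by_cases hi : i = p d
          · rw [hi, hz]
          · exact hp d i hi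
      · refine Matrix.exists_mulVec_eq_zero_iff.1 ⟨Pi.single d' (((u * g * u' : SL) : Mat) (p d) d) -
          Pi.single d (((u * g * u' : SL) : Mat) (p d) d'), fun h => hz ?_, ?_⟩
        · have := congrFun h d'
          simpa [Pi.single_eq_of_ne (Ne.symm hne)] using this
        · funext i
          rw [Matrix.mulVec_sub, Matrix.mulVec_single, Matrix.mulVec_single]
          by_cases hi : i = p d
          · subst hi; simp [mul_comm]
          · have h1 := hp d i hi
            have h2 := hp d' i (e ▸ hi)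
            simp [-Matrix.SpecialLinearGroup.coe_mul, h1, h2]
    rw [(u * g * u').prop] at hz
    exact one_ne_zero hz
  refine ⟨u⁻¹, inv_mem hu, Equiv.ofBijective p hinj.bijective_of_finite, u * g * u',
    fun i j h => hp j i h, u'⁻¹, inv_mem hu', by group⟩

local notation "tr" => Matrix.SpecialLinearGroup.transvection

theorem tr_mulVec {i j : Fin n} (h : i ≠ j) (t : F) (x : Vec) :
    ((tr h t : SL) : Mat) *ᵥ x = x + (t * x j) • Pi.single i 1 := by
  rw [Matrix.SpecialLinearGroup.transvection_coe, Matrix.add_mulVec, Matrix.one_mulVec]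
  congr 1
  funext l
  rw [Matrix.mulVec, dotProduct, Finset.sum_eq_single j]
  · by_cases hl : l = i
    · subst hl; simp
    · simp [Pi.single_eq_of_ne hl, Matrix.single_apply_of_row_ne (Ne.symm hl)]
  · intro c _ hc
    rw [Matrix.single_apply_of_col_ne _ _ (Ne.symm hc), zero_mul]
  · simp

theorem tr_mem_SUB (h2 : (2 : F) = 0) (hn : Even n) {i j : Fin n} (h : i ≠ j) (hij : i = j.rev) :
    (tr h 1 : SL) ∈ SUB n F q := by
  have hq : q ≠ 0 := Unitary.q_ne_zero hF
  have key : ∀ x : Vec, eichler q j (0 : Vec) 1 *ᵥ x = ((tr h 1 : SL) : Mat) *ᵥ x := fun x => by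
    rw [eichler_mulVec, tr_mulVec hF, hij]
    simp [B_eq_sum, zero_pow hq]
  have hc : (1 : F) + 1 ^ q + B q (0 : Vec) 0 = 0 := by
    rw [B_eq_sum]; simp [zero_pow hq, one_add_one_eq_two, h2]
  intro u v
  show B q (((tr h 1 : SL) : Mat) *ᵥ u) (((tr h 1 : SL) : Mat) *ᵥ v) = _
  rw [← key, ← key]
  exact eichler_preserves hF h2 hn j 0 1 rfl hc u v

set_option maxHeartbeats 1000000 in
theorem tr_pair_mem_SUB (h2 : (2 : F) = 0) (hn : Even n) {i j : Fin n} (h : i ≠ j)
    (h' : j.rev ≠ i.rev) (hij : i ≠ j.rev) :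
    (tr h 1 * tr h' 1 : SL) ∈ SUB n F q := by
  have hq : q ≠ 0 := Unitary.q_ne_zero hF
  have key : ∀ x : Vec, eichler q j (Pi.single i 1 : Vec) 0 *ᵥ x =
      ((tr h 1 * tr h' 1 : SL) : Mat) *ᵥ x := fun x => by
    rw [eichler_mulVec, Matrix.SpecialLinearGroup.coe_mul, ← Matrix.mulVec_mulVec, tr_mulVec hF,
      tr_mulVec hF, B_single_right hF, Pi.add_apply, Pi.smul_apply,
      Pi.single_eq_of_ne (rev_ne hn j).symm, smul_zero, add_zero, zero_smul, add_zero, one_mul,
      one_mul]
    abel
  have hji : j.rev ≠ i := fun e => hij e.symm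
  have hc : (0 : F) + 0 ^ q + B q (Pi.single i 1 : Vec) (Pi.single i 1) = 0 := by
    rw [B_single_right hF, Pi.single_eq_of_ne (rev_ne hn i), zero_pow hq, add_zero, add_zero]
  intro u v
  show B q (((tr h 1 * tr h' 1 : SL) : Mat) *ᵥ u) (((tr h 1 * tr h' 1 : SL) : Mat) *ᵥ v) = _
  rw [← key, ← key]
  exact eichler_preserves hF h2 hn j _ 0 (Pi.single_eq_of_ne h.symm _) hc u v

theorem inv_conj_tr_mem {m : SL} {π : Equiv.Perm (Fin n)} (hm : IsMono m π) {a b p r : Fin n}
    (hab : a < b) (hp : π a = p) (hr : π b = r) (hpr : p ≠ r) (t : F) :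
    m⁻¹ * tr hpr t * m ∈ unitriSL (n := n) (F := F) := by
  rw [← conj_tr_eq hm hab.ne hpr hp hr t,
    show m⁻¹ * (m * tr hab.ne (t * ent m π b / ent m π a) * m⁻¹) * m =
      tr hab.ne (t * ent m π b / ent m π a) by group]
  exact tr_mem_U _ _ hab

theorem perm_rev {m : SL} (hm : m ∈ SUB n F q) {π : Equiv.Perm (Fin n)} (h : IsMono m π)
    (a : Fin n) : π a.rev = (π a).rev := by
  have hq : q ≠ 0 := Unitary.q_ne_zero hF
  have h1 := col_B hF hm a a.rev
  rw [if_pos rfl, B_eq_sum, Finset.sum_eq_single (π a) (fun j _ hj => by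
    rw [h j a hj, zero_mul]) (by simp)] at h1
  by_contra hne
  rw [h _ _ (Ne.symm hne), zero_pow hq, mul_zero] at h1
  exact zero_ne_one h1

theorem data (h2 : (2 : F) = 0) (hn : Even n) : Data (SUB n F q) where
  bruhat := fun g hg => bruhat hF h2 hn hg
  step := fun m hmG π hm hπ => by
    obtain ⟨a, b, hab, h⟩ := exists_inversion hπ
    have hne1 : (-1 : F) = 1 := by linear_combination -h2
    have hpr : π b ≠ π a := π.injective.ne hab.ne'
    have hlt : π b < π a := Fin.lt_def.2 (by omega)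
    have hU : ∀ {x : SL}, x ∈ SUB n F q → x ∈ unitriSL (n := n) (F := F) →
        x ∈ SUB n F q ⊓ unitriSL := fun h1 h3 => ⟨h1, h3⟩
    set K := (SUB n F q ⊓ unitriSL) ⊔ (SUB n F q ⊓ unitriSL).map (MulAut.conj m).toMonoidHom
    have inK : ∀ {Y : SL}, Y ∈ SUB n F q → m⁻¹ * Y * m ∈ unitriSL (n := n) (F := F) → Y ∈ K := by
      intro Y hY hYU
      refine Subgroup.mem_sup_right ⟨m⁻¹ * Y * m,
        hU (mul_mem (mul_mem (inv_mem hmG) hY) hmG) hYU, ?_⟩
      simp [mul_assoc]
    have fin : ∀ (X Y : SL) (s : Equiv.Perm (Fin n)), X ∈ SUB n F q → Y ∈ SUB n F q →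
        IsMono (X * Y * X) s → weight (s⁻¹ * π) < weight π →
        (∀ t, IsMono t 1 → t * X * t⁻¹ ∈ unitriSL (n := n) (F := F)) →
        (∀ t, IsMono t 1 → m⁻¹ * (t * Y * t⁻¹) * m ∈ unitriSL (n := n) (F := F)) →
        Y ∉ unitriSL (n := n) (F := F) →
        (∃ x ∈ SUB n F q ⊓ unitriSL, m * x * m⁻¹ ∉ unitriSL) ∧
        ∃ (π' : Equiv.Perm (Fin n)) (w : SL), w ∈ SUB n F q ∧ IsMono (w⁻¹ * m) π' ∧
          weight π' < weight π ∧ ∀ t ∈ diag (SUB n F q), t * w * t⁻¹ ∈ K := by
      intro X Y s hX hY hmono hw hXU hYU hYn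
      have hY1 : m⁻¹ * Y * m ∈ unitriSL (n := n) (F := F) := by simpa using hYU 1 isMono_one
      refine ⟨⟨m⁻¹ * Y * m, hU (mul_mem (mul_mem (inv_mem hmG) hY) hmG) hY1, ?_⟩, s⁻¹ * π, X * Y * X,
        mul_mem (mul_mem hX hY) hX, hmono.inv.mul hm, hw, fun t ht => ?_⟩
      · rwa [show m * (m⁻¹ * Y * m) * m⁻¹ = Y by group]
      · have hG : ∀ {Z : SL}, Z ∈ SUB n F q → t * Z * t⁻¹ ∈ SUB n F q := fun hZ =>
          mul_mem (mul_mem ht.1 hZ) (inv_mem ht.1)
        have h1 : t * X * t⁻¹ ∈ K := Subgroup.mem_sup_left (hU (hG hX) (hXU t ht.2))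
        rw [show t * (X * Y * X) * t⁻¹ = t * X * t⁻¹ * (t * Y * t⁻¹) * (t * X * t⁻¹) by group]
        exact mul_mem (mul_mem h1 (inK (hG hY) (hYU t ht.2))) h1
    by_cases hmid : π a = (π b).rev
    · refine fin (tr hpr 1) (tr hpr.symm 1) (Equiv.swap (π b) (π a))
        (tr_mem_SUB hF h2 hn hpr (by rw [hmid, Fin.rev_rev])) (tr_mem_SUB hF h2 hn hpr.symm hmid)
        ?_ ?_ (fun t ht => ?_) (fun t ht => ?_) fun hx => ?_
      · have := isMono_flip (F := F) hpr
        rwa [EvenSL.flip, hne1] at this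
      · rw [Equiv.swap_inv]; exact weight_swap_lt hab h
      · rw [diag_conj_tr ht]; exact tr_mem_U _ _ hlt
      · rw [diag_conj_tr ht]; exact inv_conj_tr_mem hF hm hab rfl rfl _ _
      · have h1 := hx.1 _ _ hlt
        rw [tr_apply, if_neg hpr.symm, if_pos ⟨rfl, rfl⟩, zero_add] at h1
        exact one_ne_zero h1
    · have hra := perm_rev hF hmG hm a
      have hrb := perm_rev hF hmG hm b
      have hpr' : (π a).rev ≠ (π b).rev := fun e => hpr (Fin.rev_injective e).symm
      have hlt' : (π a).rev < (π b).rev := Fin.rev_lt_rev.2 hlt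
      have hab' : b.rev < a.rev := Fin.rev_lt_rev.2 hab
      have h12 : π b ≠ (π a).rev := fun e => hmid (by rw [e, Fin.rev_rev])
      have h34 : π a ≠ (π b).rev := hmid
      have hp' : π b ≠ (π b).rev := (rev_ne hn _).symm
      have hr' : π a ≠ (π a).rev := (rev_ne hn _).symm
      have hcomm : ∀ {i j k l : Fin n} (h1 : i ≠ j) (h3 : k ≠ l), j ≠ k → l ≠ i →
          (tr h1 1 : SL) * tr h3 1 = tr h3 1 * tr h1 1 := by
        intro i j k l h1 h3 hjk hli
        refine Matrix.SpecialLinearGroup.ext _ _ fun x y => ?_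
        rw [mul_tr_apply, tr_mul_apply h3, tr_apply h1, tr_apply h1, tr_apply h1]
        by_cases e1 : y = l <;> by_cases e2 : x = k <;> simp [e1, e2, hjk.symm, hli] <;>
          simp_all [eq_comm]
      refine fin (tr hpr 1 * tr hpr' 1) (tr hpr.symm 1 * tr hpr'.symm 1)
        (Equiv.swap (π b) (π a) * Equiv.swap (π a).rev (π b).rev)
        (tr_pair_mem_SUB hF h2 hn hpr hpr' h12) (tr_pair_mem_SUB hF h2 hn hpr.symm hpr'.symm h34)
        ?_ ?_ (fun t ht => ?_) (fun t ht => ?_) fun hx => ?_
      · have := (isMono_flip (F := F) hpr).mul (isMono_flip (F := F) hpr')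
        rw [EvenSL.flip, EvenSL.flip, hne1] at this
        set A := (tr hpr 1 : SL)
        set A' := (tr hpr' 1 : SL)
        set C := (tr hpr.symm 1 : SL)
        set C' := (tr hpr'.symm 1 : SL)
        have c1 : A' * C = C * A' := hcomm _ _ h34.symm h12
        have c2 : A' * A = A * A' := hcomm _ _ (Ne.symm hp') hr'
        have c3 : C' * A = A * C' := hcomm _ _ h12.symm h34
        rwa [show A * A' * (C * C') * (A * A') = A * C * A * (A' * C' * A') by
          calc A * A' * (C * C') * (A * A') = A * (A' * C) * ((C' * A) * A') := by group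
            _ = A * C * ((A' * A) * C' * A') := by rw [c1, c3]; group
            _ = _ := by rw [c2]; group]
      · have e1 : (Equiv.swap (π a).rev (π b).rev * π) a = π a :=
          Equiv.swap_apply_of_ne_of_ne hr' h34
        have e2 : (Equiv.swap (π a).rev (π b).rev * π) b = π b :=
          Equiv.swap_apply_of_ne_of_ne h12 hp'
        have step1 : weight (Equiv.swap (π a).rev (π b).rev * π) < weight π := by
          have := weight_swap_lt (π := π) hab' (by
            rw [hra, hrb, Fin.val_rev, Fin.val_rev]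
            have := (π a).isLt
            omega)
          rwa [hra, hrb] at this
        have step2 := weight_swap_lt (π := Equiv.swap (π a).rev (π b).rev * π) hab (by
          rw [e1, e2]; exact h)
        rw [e1, e2, ← mul_assoc] at step2
        rw [_root_.mul_inv_rev, Equiv.swap_inv, Equiv.swap_inv,
          show Equiv.swap (π a).rev (π b).rev * Equiv.swap (π b) (π a) =
            Equiv.swap (π b) (π a) * Equiv.swap (π a).rev (π b).rev from ?_]
        · exact step2.trans step1
        · rw [Equiv.mul_swap_eq_swap_mul, Equiv.swap_apply_of_ne_of_ne h12 hp',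
            Equiv.swap_apply_of_ne_of_ne hr' h34]
      · rw [show t * (tr hpr 1 * tr hpr' 1) * t⁻¹ = (t * tr hpr 1 * t⁻¹) * (t * tr hpr' 1 * t⁻¹) by
          group, diag_conj_tr ht, diag_conj_tr ht]
        exact mul_mem (tr_mem_U _ _ hlt) (tr_mem_U _ _ hlt')
      · rw [show m⁻¹ * (t * (tr hpr.symm 1 * tr hpr'.symm 1) * t⁻¹) * m =
          (m⁻¹ * (t * tr hpr.symm 1 * t⁻¹) * m) * (m⁻¹ * (t * tr hpr'.symm 1 * t⁻¹) * m) by group,
          diag_conj_tr ht, diag_conj_tr ht]
        exact mul_mem (inv_conj_tr_mem hF hm hab rfl rfl _ _) (inv_conj_tr_mem hF hm hab' hrb hra _ _)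
      · have h1 := hx.1 _ _ hlt
        rw [mul_tr_apply, if_neg h12, add_zero, tr_apply,
          if_neg hpr.symm, if_pos ⟨rfl, rfl⟩, zero_add] at h1
        exact one_ne_zero h1

/-- Conjugation of `SL_n` by an invertible matrix. -/
def conjSL (P : GL (Fin n) F) : SL →* SL where
  toFun g := ⟨(P : Mat) * g * ((P⁻¹ : GL (Fin n) F) : Mat), by
    rw [Matrix.det_mul, Matrix.det_mul, g.prop, mul_one, ← Matrix.det_mul, Units.mul_inv, Matrix.det_one]⟩
  map_one' := Subtype.ext (by simp)
  map_mul' g h := Subtype.ext (by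
    show _ = ((P : Mat) * g * _) * ((P : Mat) * h * _)
    simp [mul_assoc])

theorem sum_pairs (hn : Even n) (f : Fin n → F) :
    ∑ i, f i = ∑ i ∈ Finset.univ.filter (fun i => i < i.rev), (f i + f i.rev) := by
  classical
  rw [← Finset.sum_filter_add_sum_filter_not Finset.univ (fun i : Fin n => i < i.rev),
    Finset.sum_add_distrib]
  congr 1
  refine Finset.sum_nbij' Fin.rev Fin.rev ?_ ?_ ?_ ?_ ?_
  · intro i hi
    simp only [Finset.mem_filter, Finset.mem_univ, true_and, not_lt, Finset.mem_coe] at hi ⊢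
    rw [Fin.rev_rev]
    exact lt_of_le_of_ne hi (rev_ne hn i)
  · intro i hi
    simp only [Finset.mem_filter, Finset.mem_univ, true_and, not_lt, Finset.mem_coe] at hi ⊢
    rw [Fin.rev_rev]
    exact hi.le
  · intro i _; exact Fin.rev_rev i
  · intro i _; exact Fin.rev_rev i
  · intro i _; rw [Fin.rev_rev]

theorem exists_basis_change (hn : Even n) :
    ∃ P : GL (Fin n) F, ∀ x y : Vec,
      Cfsg.hermForm n F q ((P : Mat) *ᵥ x) ((P : Mat) *ᵥ y) = B q x y := by
  classical
  have hq : q ≠ 0 := Unitary.q_ne_zero hF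
  obtain ⟨u, huu, hu1, -, -⟩ := Unitary.exists_isotropic_pair hF (n := 2) 0 1 (by decide)
  have hu : u ≠ 0 := fun h => by simp [h] at hu1
  obtain ⟨v, hvv, huv⟩ := Unitary.exists_partner hF hu huu
  have hvu : Cfsg.hermForm 2 F q v u = 1 := by rw [← Unitary.H_conj hF, huv, one_pow]
  simp only [Cfsg.hermForm, Fin.sum_univ_two] at huu hvv huv hvu
  let M : Mat := Matrix.of fun i j =>
    (if j = i then (if i < i.rev then u 0 else v 1) else 0) +
      (if j = i.rev then (if i < i.rev then v 0 else u 1) else 0)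
  have hMx : ∀ (x : Vec) (i : Fin n), (M *ᵥ x) i = (if i < i.rev then u 0 else v 1) * x i +
      (if i < i.rev then v 0 else u 1) * x i.rev := by
    intro x i
    simp [M, Matrix.mulVec, dotProduct, add_mul, Finset.sum_add_distrib, ite_mul]
  have hM : ∀ x y : Vec, Cfsg.hermForm n F q (M *ᵥ x) (M *ᵥ y) = B q x y := by
    intro x y
    rw [B_eq_sum, sum_pairs hF hn, Cfsg.hermForm, sum_pairs hF hn]
    refine Finset.sum_congr rfl fun i hi => ?_
    have hlt : i < i.rev := (Finset.mem_filter.1 hi).2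
    have hnlt : ¬ i.rev < i := lt_asymm hlt
    simp only [hMx, if_pos hlt, if_neg hnlt, Fin.rev_rev, ← Forms.HermStd.qHom_apply hF, map_add, map_mul]
    simp only [Forms.HermStd.qHom_apply hF]
    linear_combination (x i * y i ^ q) * huu + (x i.rev * y i.rev ^ q) * hvv +
      (x i * y i.rev ^ q) * huv + (x i.rev * y i ^ q) * hvu
  have hdet : M.det ≠ 0 := by
    intro hd
    obtain ⟨x, hx, hx0⟩ := Matrix.exists_mulVec_eq_zero_iff.2 hd
    refine hx (funext fun i => ?_)
    have h := hM x (Pi.single i.rev 1)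
    rw [hx0, Unitary.H_zero_left, B_single_right hF, Fin.rev_rev] at h
    exact h.symm
  exact ⟨GeneralLinearGroup.mkOfDetNeZero M hdet, hM⟩

/-- The odd index subgroups of `PSU_n(q)`, `n` even and `q` even, are pronormal. -/
theorem isPronormal (h2 : CharP F 2) (hn : Even n) (hn1 : 1 ≤ n) (H : Subgroup (Cfsg.PSU n F q))
    (hH : Odd H.index) : Cfsg.IsPronormal H := by
  have h20 : (2 : F) = 0 := CharTwo.two_eq_zero
  obtain ⟨P, hP⟩ := exists_basis_change hF hn
  have hmul : ∀ (g : SL) (x : Vec), ((conjSL P g : SL) : Mat) *ᵥ ((P : Mat) *ᵥ x) =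
      (P : Mat) *ᵥ ((g : Mat) *ᵥ x) := by
    intro g x
    rw [Matrix.mulVec_mulVec, Matrix.mulVec_mulVec]
    congr 1
    show (P : Mat) * g * _ * (P : Mat) = _
    rw [mul_assoc, Units.inv_mul, mul_one]
  have hPinv : ∀ x : Vec, (P : Mat) *ᵥ (((P⁻¹ : GL (Fin n) F) : Mat) *ᵥ x) = x := fun x => by
    rw [Matrix.mulVec_mulVec, Units.mul_inv, Matrix.one_mulVec]
  have hto : ∀ g ∈ SUB n F q, conjSL P g ∈ Cfsg.SU n F q := by
    intro g hg u v
    show Cfsg.hermForm n F q (((conjSL P g : SL) : Mat) *ᵥ u) (((conjSL P g : SL) : Mat) *ᵥ v) = _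
    rw [← hPinv u, ← hPinv v, hmul, hmul, hP, hP, mem_SUB.1 hg]
  let f : SUB n F q →* Cfsg.SU n F q :=
    ((conjSL P).comp (SUB n F q).subtype).codRestrict _ fun g => hto g g.2
  have hf : Function.Surjective f := by
    rintro ⟨h, hh⟩
    have e : conjSL P (conjSL P⁻¹ h) = h := Subtype.ext (by
      show (P : Mat) * (((P⁻¹ : GL (Fin n) F) : Mat) * h * ((P⁻¹⁻¹ : GL (Fin n) F) : Mat)) * _ = _
      rw [inv_inv]
      simp [← mul_assoc])
    refine ⟨⟨conjSL P⁻¹ h, fun u v => ?_⟩, Subtype.ext e⟩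
    show B q (((conjSL P⁻¹ h : SL) : Mat) *ᵥ u) (((conjSL P⁻¹ h : SL) : Mat) *ᵥ v) = _
    rw [← hP, ← hmul, ← hmul, e, ← hP u v]
    exact hh _ _
  refine of_surjective ((QuotientGroup.mk' (Subgroup.center (Cfsg.SU n F q))).comp f)
    ((QuotientGroup.mk'_surjective _).comp hf)
    (fun K _ hK => EvenCore.isPronormal (data hF h20 hn) h2 hn1 K hK) H hH

end Cfsg.Agent.Classical.OddIndex.EvenSU
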