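import Mathlib
import Cfsg.Agent.Lib.Classical.OddIndex.Criterion
import Cfsg.Agent.Lib.Classical.SylowSL2
import Cfsg.Agent.S2431

/-!
# Subgroups of odd index of `SL₂` in odd characteristic
-/

set_option autoImplicit false
set_option linter.unusedSectionVars false
set_option linter.unusedSimpArgs false

namespace Cfsg.Agent.Classical.OddIndex.SLTwo

open Matrix
open scoped MatrixGroups
open TorusNormalizer (negOne negOne_sq coe_negOne)

variable {F : Type*} [Field F] [Fintype F]

local notation "G" => SL(2, F)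
local notation "M2" => Matrix (Fin 2) (Fin 2) F

/-- An element with square `-1`. -/
def IsRoot (a : G) : Prop := a * a = negOne F

theorem negOne_comm (a : G) : negOne F * a = a * negOne F := by
  ext i j; simp [coe_negOne]

theorem eq_pm_of_sq (h2 : (2 : F) ≠ 0) {x : G} (h : x * x = 1) : x = 1 ∨ x = negOne F := by
  have hd := x.prop
  rw [det_fin_two] at hd
  have h00 := congrArg (fun m : G => (m : M2) 0 0) h
  have h01 := congrArg (fun m : G => (m : M2) 0 1) h
  have h10 := congrArg (fun m : G => (m : M2) 1 0) h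
  have h11 := congrArg (fun m : G => (m : M2) 1 1) h
  simp [Matrix.mul_apply, Fin.sum_univ_two] at h00 h01 h10 h11
  set a := (x : M2) 0 0
  set b := (x : M2) 0 1
  set c := (x : M2) 1 0
  set d := (x : M2) 1 1
  have ht : (a + d) ^ 2 = 4 := by linear_combination h00 + h11 + 2 * hd
  have hs : a + d ≠ 0 := fun e => by
    rw [e] at ht
    have : (2 : F) * 2 = 0 := by linear_combination -ht
    exact (mul_ne_zero h2 h2) this
  have hb : b = 0 := (mul_eq_zero.1 (show (a + d) * b = 0 by linear_combination h01)).resolve_left hs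
  have hc : c = 0 := (mul_eq_zero.1 (show (a + d) * c = 0 by linear_combination h10)).resolve_left hs
  have had : a = d := by
    refine sub_eq_zero.1 ((mul_eq_zero.1 (show (a + d) * (a - d) = 0 by
      linear_combination h00 - h11)).resolve_left hs)
  rw [hb, zero_mul, add_zero] at h00
  rcases mul_self_eq_one_iff.1 h00 with e | e
  · refine Or.inl (Matrix.SpecialLinearGroup.ext _ _ fun i j => ?_)
    fin_cases i <;> fin_cases j
    · exact e.trans (by simp)
    · exact hb.trans (by simp)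
    · exact hc.trans (by simp)
    · exact (had.symm.trans e).trans (by simp)
  · refine Or.inr (Matrix.SpecialLinearGroup.ext _ _ fun i j => ?_)
    fin_cases i <;> fin_cases j
    · exact e.trans (by simp [coe_negOne])
    · exact hb.trans (by simp [coe_negOne])
    · exact hc.trans (by simp [coe_negOne])
    · exact (had.symm.trans e).trans (by simp [coe_negOne])

theorem IsRoot.trace {a : G} (ha : IsRoot a) : (a : M2) 0 0 + (a : M2) 1 1 = 0 := by
  have hd := a.prop
  rw [det_fin_two] at hd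
  have h00 := congrArg (fun m : G => (m : M2) 0 0) ha
  have h11 := congrArg (fun m : G => (m : M2) 1 1) ha
  simp [coe_negOne, Matrix.mul_apply, Fin.sum_univ_two] at h00 h11
  have : ((a : M2) 0 0 + (a : M2) 1 1) ^ 2 = 0 := by linear_combination h00 + h11 + 2 * hd
  exact pow_eq_zero_iff two_ne_zero |>.1 this

/-- The commutant of a root of `-1` consists of the linear combinations of `1` and that root. -/
theorem exists_comb_mat (h2 : (2 : F) ≠ 0) {a : G} (ha : IsRoot a) {X : M2}
    (h : X * (a : M2) = (a : M2) * X) : ∃ s t : F, X = s • (1 : M2) + t • (a : M2) := by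
  set A := (a : M2) with hA
  set s := (X 0 0 + X 1 1) / 2
  have htr := ha.trace
  set m : M2 := X - s • (1 : M2) with hm
  have hmtr : m 0 0 + m 1 1 = 0 := by
    simp [hm, s]; field_simp; ring
  have hcomm : m * A = A * m := by
    rw [hm, sub_mul, mul_sub, h, Matrix.smul_mul, Matrix.mul_smul, one_mul, mul_one]
  have hanti : m * A + A * m = ((m * A) 0 0 + (m * A) 1 1) • (1 : M2) := by
    have e1 : m 1 1 = - m 0 0 := by linear_combination hmtr
    have e2 : A 1 1 = - A 0 0 := by linear_combination htr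
    ext i j
    fin_cases i <;> fin_cases j <;> simp [Matrix.mul_apply, Fin.sum_univ_two, e1, e2] <;> ring
  set κ := ((m * A) 0 0 + (m * A) 1 1) / 2 with hκ
  have hmA : m * A = κ • (1 : M2) := by
    rw [← hcomm, ← two_smul F] at hanti
    rw [← inv_smul_smul₀ h2 (m * A), hanti, smul_smul, hκ, div_eq_inv_mul]
  have hAA : A * A = -1 := by
    rw [hA, ← Matrix.SpecialLinearGroup.coe_mul, ha, coe_negOne]
  refine ⟨s, -κ, ?_⟩
  have e : m * (A * A) = κ • A := by rw [← mul_assoc, hmA, Matrix.smul_mul, one_mul]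
  rw [hAA, mul_neg, mul_one] at e
  rw [neg_smul, ← e, neg_neg, hm]
  abel

theorem exists_comb (h2 : (2 : F) ≠ 0) {a x : G} (ha : IsRoot a) (h : x * a = a * x) :
    ∃ s t : F, (x : M2) = s • (1 : M2) + t • (a : M2) :=
  exists_comb_mat h2 ha (by simpa using congrArg (fun g : G => (g : M2)) h)

/-- Elements commuting with the same root commute. -/
theorem comm_of_comm (h2 : (2 : F) ≠ 0) {a x y : G} (ha : IsRoot a) (hx : x * a = a * x)
    (hy : y * a = a * y) : x * y = y * x := by
  obtain ⟨s, t, e⟩ := exists_comb h2 ha hx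
  obtain ⟨s', t', e'⟩ := exists_comb h2 ha hy
  refine Subtype.ext ?_
  simp only [Matrix.SpecialLinearGroup.coe_mul, e, e', add_mul, mul_add, Matrix.smul_mul,
    Matrix.mul_smul, one_mul, mul_one, smul_smul]
  rw [mul_comm s s', mul_comm s' t, mul_comm t' t, mul_comm s t']
  abel

/-- Roots which commute agree up to sign. -/
theorem eq_pm_of_comm (h2 : (2 : F) ≠ 0) {a b : G} (ha : IsRoot a) (hb : IsRoot b)
    (h : b * a = a * b) : b = a ∨ b = a * negOne F := by
  have hsq : (b * a⁻¹) * (b * a⁻¹) = 1 := by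
    have hc : a⁻¹ * b = b * a⁻¹ := (Commute.inv_left (show Commute a b from h.symm)).eq
    calc b * a⁻¹ * (b * a⁻¹) = b * (a⁻¹ * b) * a⁻¹ := by group
      _ = b * b * (a * a)⁻¹ := by rw [hc]; group
      _ = 1 := by rw [ha, hb, mul_inv_cancel]
  rcases eq_pm_of_sq h2 hsq with e | e
  · exact Or.inl (mul_inv_eq_one.1 e)
  · exact Or.inr (by rw [← negOne_comm, ← e]; group)

/-- An element commuting with two roots that do not commute is `±1`. -/
theorem eq_pm_of_comm_two (h2 : (2 : F) ≠ 0) {a b x : G} (ha : IsRoot a) (hab : a * b ≠ b * a)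
    (hxa : x * a = a * x) (hxb : x * b = b * x) : x = 1 ∨ x = negOne F := by
  obtain ⟨s, t, e⟩ := exists_comb h2 ha hxa
  have ht : t = 0 := by
    by_contra ht
    refine hab (Subtype.ext ?_)
    have h' : (x : M2) * (b : M2) = (b : M2) * (x : M2) := by
      simpa using congrArg (fun g : G => (g : M2)) hxb
    simp only [e, add_mul, mul_add, Matrix.smul_mul, Matrix.mul_smul, one_mul, mul_one,
      add_right_inj] at h'
    simpa using smul_right_injective M2 ht h'
  rw [ht, zero_smul, add_zero] at e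
  refine eq_pm_of_sq h2 (Subtype.ext ?_)
  have hd := x.prop
  rw [e, det_smul, det_one, Fintype.card_fin, mul_one] at hd
  have e2 : (x : M2) * (x : M2) = 1 := by
    rw [e, Matrix.smul_mul, Matrix.mul_smul, one_mul, smul_smul, ← sq, hd, one_smul]
  simpa using e2

/-- `c n c⁻¹ = ± n` only when `n` and `c` commute. -/
def Rigid (O : Subgroup G) : Prop :=
  ∀ n ∈ O, ∀ c : G, n * c * n⁻¹ = c * negOne F → n * c = c * n

theorem rigid_of_card (h2 : (2 : F) ≠ 0) {O : Subgroup G} {m : ℕ} (hm : Odd m)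
    (hcard : Nat.card O = 2 * m) : Rigid O := by
  intro n hn c hc
  obtain ⟨k, rfl⟩ := hm
  have hnm : Commute (n ^ (2 * k + 1)) c := by
    have h1 : n ^ (2 * k + 1) * n ^ (2 * k + 1) = 1 := by
      rw [← pow_add, ← two_mul, ← hcard]
      exact orderOf_dvd_iff_pow_eq_one.1 (Subgroup.orderOf_dvd_natCard O hn)
    rcases eq_pm_of_sq h2 h1 with e | e <;> rw [e]
    · exact Commute.one_left c
    · exact negOne_comm c
  have hn2 : Commute (n * n) c := by
    have e : n * n * c * (n * n)⁻¹ = c := by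
      calc n * n * c * (n * n)⁻¹ = n * (n * c * n⁻¹) * n⁻¹ := by group
        _ = n * (c * negOne F) * n⁻¹ := by rw [hc]
        _ = n * c * (negOne F * n⁻¹) := by group
        _ = n * c * n⁻¹ * negOne F := by rw [negOne_comm n⁻¹, ← mul_assoc]
        _ = c := by rw [hc, mul_assoc, negOne_sq, mul_one]
    exact mul_inv_eq_iff_eq_mul.1 e
  have e : n = n ^ (2 * k + 1) * ((n * n) ^ k)⁻¹ := by
    rw [← sq, ← pow_mul, pow_succ', mul_inv_cancel_right]
  rw [e]
  exact ((hnm.mul_left (hn2.pow_left k).inv_left)).eq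

variable {O : Subgroup SL(2, F)}

/-- The conjugates of the centraliser of a root in `O`. -/
theorem conj_root (h2 : (2 : F) ≠ 0) {a b c c' n : G} (ha : IsRoot a) (hb : IsRoot b)
    (hc : c * a = a * c) (hcne : c ≠ 1 ∧ c ≠ negOne F) (hc' : c' * b = b * c')
    (h : n * c * n⁻¹ = c') : n * a * n⁻¹ = b ∨ n * a * n⁻¹ = b * negOne F := by
  have hr : IsRoot (n * a * n⁻¹) := by
    show n * a * n⁻¹ * (n * a * n⁻¹) = negOne F
    rw [show n * a * n⁻¹ * (n * a * n⁻¹) = n * (a * a) * n⁻¹ by group, ha, ← negOne_comm n,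
      mul_inv_cancel_right]
  have h1 : (n * a * n⁻¹) * c' = c' * (n * a * n⁻¹) := by
    rw [← h, show n * a * n⁻¹ * (n * c * n⁻¹) = n * (a * c) * n⁻¹ by group, ← hc]; group
  refine eq_pm_of_comm h2 hb hr (Classical.byContradiction fun hne => ?_)
  rcases eq_pm_of_comm_two h2 hr hne h1.symm hc' with e | e
  · rw [e, mul_inv_eq_one] at h
    exact hcne.1 (mul_left_cancel (h.trans (mul_one n).symm))
  · rw [e, mul_inv_eq_iff_eq_mul, negOne_comm] at h
    exact hcne.2 (mul_left_cancel h)

/-- The centraliser of `a` inside `O`. -/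
def cent (O : Subgroup G) (a : G) : Subgroup G := O ⊓ Subgroup.centralizer {a}

theorem mem_cent {a x : G} : x ∈ cent O a ↔ x ∈ O ∧ x * a = a * x := by
  rw [cent, Subgroup.mem_inf, Subgroup.mem_centralizer_singleton_iff]

theorem Rigid.mem_cent (hO : Rigid O) {a n : G} (hn : n ∈ O)
    (h : n * a * n⁻¹ = a ∨ n * a * n⁻¹ = a * negOne F) : n ∈ cent O a :=
  SLTwo.mem_cent.2 ⟨hn, h.elim mul_inv_eq_iff_eq_mul.1 (hO n hn a)⟩

/-- A rigid subgroup normalised by two anticommuting roots meets only one of their tori. -/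
theorem not_both (h2 : (2 : F) ≠ 0) (hO : Rigid O) {m : ℕ} (hm : Odd m)
    (hcard : Nat.card O = 2 * m) (hz : negOne F ∈ O) {a b : G} (ha : IsRoot a) (hb : IsRoot b)
    (hab : a * b = b * a * negOne F) (hna : ∀ x ∈ O, a * x * a⁻¹ ∈ O)
    (hA : ∃ x ∈ O, x * a = a * x ∧ x ≠ 1 ∧ x ≠ negOne F)
    (hB : ∃ x ∈ O, x * b = b * x ∧ x ≠ 1 ∧ x ≠ negOne F) : False := by
  classical
  have hz1 : negOne F ≠ 1 := by
    intro e
    have := congrArg (fun g : G => (g : M2) 0 0) e
    simp [coe_negOne] at this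
    exact h2 (by linear_combination -this)
  have habne : a * b ≠ b * a := fun e => hz1 (mul_left_cancel
    (show b * a * negOne F = b * a * 1 by rw [← hab, e, mul_one]))
  have hbig : ∀ c : G, (∃ x ∈ O, x * c = c * x ∧ x ≠ 1 ∧ x ≠ negOne F) →
      3 * ((cent O c).relIndex O * (Nat.card (cent O c) - 2)) ≥ 2 * Nat.card O ∧
        Nat.card (cent O c) ≥ 2 := by
    rintro c ⟨x, hx, hxc, hx1, hx2⟩
    have hle : cent O c ≤ O := inf_le_left
    have hzc : negOne F ∈ cent O c := SLTwo.mem_cent.2 ⟨hz, negOne_comm c⟩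
    have h2dvd : 2 ∣ Nat.card (cent O c) := by
      have ho : orderOf (negOne F : G) = 2 :=
        orderOf_eq_prime (p := 2) (hp := ⟨Nat.prime_two⟩) (by rw [sq, negOne_sq]) hz1
      have h := Subgroup.orderOf_dvd_natCard _ hzc
      rwa [ho] at h
    have h3 : 2 < Nat.card (cent O c) := by
      by_contra hle2
      have he : Nat.card (cent O c) = 2 :=
        le_antisymm (by omega) (Nat.le_of_dvd Nat.card_pos h2dvd)
      have hxx : x * x = 1 := by
        have h := orderOf_dvd_iff_pow_eq_one.1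
          (Subgroup.orderOf_dvd_natCard _ (SLTwo.mem_cent.2 ⟨hx, hxc⟩))
        rwa [he, sq] at h
      rcases eq_pm_of_sq h2 hxx with e | e
      · exact hx1 e
      · exact hx2 e
    obtain ⟨e, he⟩ := h2dvd
    have hmul := Subgroup.relIndex_mul_relIndex (⊥ : Subgroup G) (cent O c) O bot_le hle
    rw [Subgroup.relIndex_bot_left, Subgroup.relIndex_bot_left, hcard, he] at hmul
    have he3 : 3 ≤ e := by
      obtain ⟨k, rfl⟩ := hm
      rcases Nat.lt_or_ge e 3 with h | h
      · interval_cases e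
        · omega
        · omega
        · exfalso; omega
      · exact h
    refine ⟨?_, by omega⟩
    rw [he, hcard]
    set i := (cent O c).relIndex O
    obtain ⟨e', rfl⟩ : ∃ e', e = e' + 3 := ⟨e - 3, by omega⟩
    rw [show 2 * (e' + 3) - 2 = 2 * e' + 4 by omega]
    nlinarith
  obtain ⟨hA', hA2⟩ := hbig a hA
  obtain ⟨hB', hB2⟩ := hbig b hB
  -- the two families of conjugates are disjoint
  have hdisj : ∀ n ∈ O, ¬ (n * a * n⁻¹ = b ∨ n * a * n⁻¹ = b * negOne F) := by
    intro n hn h
    set t := n⁻¹ * a * n * a⁻¹ with ht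
    have htO : t ∈ O := by
      rw [ht, show n⁻¹ * a * n * a⁻¹ = n⁻¹ * (a * n * a⁻¹) by group]
      exact mul_mem (inv_mem hn) (hna n hn)
    have hzc : ∀ x : G, x * negOne F = negOne F * x := fun x => (negOne_comm x).symm
    have hta : t * a * t⁻¹ = a ∨ t * a * t⁻¹ = a * negOne F := by
      have e0 : t * a * t⁻¹ = n⁻¹ * (a * (n * a * n⁻¹) * a⁻¹) * n := by rw [ht]; group
      have e1 : a * b * a⁻¹ = b * negOne F := by
        rw [mul_inv_eq_iff_eq_mul, hab, mul_assoc b, hzc a, ← mul_assoc]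
      rcases h with h | h
      · refine Or.inr ?_
        rw [e0, h, e1, ← h, show n⁻¹ * (n * a * n⁻¹ * negOne F) * n =
          a * (n⁻¹ * negOne F * n) by group, hzc n⁻¹, mul_assoc (negOne F), inv_mul_cancel, mul_one]
      · refine Or.inr ?_
        have hb' : b = n * a * n⁻¹ * negOne F := by rw [h, mul_assoc, negOne_sq, mul_one]
        rw [e0, h, show a * (b * negOne F) * a⁻¹ = a * b * (negOne F * a⁻¹) by group,
          negOne_comm a⁻¹, ← mul_assoc (a * b), e1, mul_assoc b, negOne_sq, mul_one, hb',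
          show n⁻¹ * (n * a * n⁻¹ * negOne F) * n = a * (n⁻¹ * negOne F * n) by group, hzc n⁻¹,
          mul_assoc (negOne F), inv_mul_cancel, mul_one]
    have htc : t * a = a * t := (SLTwo.mem_cent.1 (hO.mem_cent htO hta)).2
    have htt : t * t = 1 := by
      have ha2 : a * a = negOne F := ha
      calc t * t = t * (a * t * a⁻¹) := by rw [← htc, mul_inv_cancel_right]
        _ = n⁻¹ * a * n * n⁻¹ * (a * n) * (a * a)⁻¹ := by rw [ht]; group
        _ = n⁻¹ * (a * a) * n * (a * a)⁻¹ := by group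
        _ = 1 := by rw [ha2, hzc n⁻¹, mul_assoc (negOne F), inv_mul_cancel, mul_one, mul_inv_cancel]
    have hnc : n * a * n⁻¹ = a ∨ n * a * n⁻¹ = a * negOne F := by
      rcases eq_pm_of_sq h2 htt with e | e
      · refine Or.inl ?_
        rw [ht, mul_inv_eq_one] at e
        nth_rw 1 [← e]; group
      · refine Or.inr ?_
        rw [ht, mul_inv_eq_iff_eq_mul] at e
        have e' : a * n = n * (negOne F * a) := by rw [← e]; group
        rw [mul_inv_eq_iff_eq_mul, mul_assoc, negOne_comm n, ← mul_assoc, e', negOne_comm a,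
          ← mul_assoc, mul_assoc (n * a), negOne_sq, mul_one]
    rw [mul_inv_eq_iff_eq_mul.2 (SLTwo.mem_cent.1 (hO.mem_cent hn hnc)).2] at h
    rcases h with h | h
    · exact habne (by rw [h])
    · refine habne ?_
      rw [h, mul_assoc b, negOne_comm b]
  -- counting
  let T := fun c : G => {x : O // (x : G) ∈ cent O c ∧ (x : G) ≠ 1 ∧ (x : G) ≠ negOne F}
  let Q := fun c : G => O ⧸ (cent O c).subgroupOf O
  let f : Q a × T a ⊕ Q b × T b → {x : O // (x : G) ≠ 1 ∧ (x : G) ≠ negOne F} := fun p =>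
    have ok : ∀ (c : G) (y : Q c) (x : T c), ((y.out * x.1 * y.out⁻¹ : O) : G) ≠ 1 ∧
        ((y.out * x.1 * y.out⁻¹ : O) : G) ≠ negOne F := by
      intro c y x
      simp only [Subgroup.coe_mul, InvMemClass.coe_inv]
      refine ⟨fun e => x.2.2.1 (conj_eq_one_iff.1 e), fun e => x.2.2.2 ?_⟩
      rw [mul_inv_eq_iff_eq_mul, negOne_comm] at e
      exact mul_left_cancel e
    match p with
    | Sum.inl (y, x) => ⟨y.out * x.1 * y.out⁻¹, ok a y x⟩
    | Sum.inr (y, x) => ⟨y.out * x.1 * y.out⁻¹, ok b y x⟩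
  have hcore : ∀ {c d : G}, IsRoot c → IsRoot d → ∀ (y : Q c) (x : T c) (y' : Q d) (x' : T d),
      (y.out * x.1 * y.out⁻¹ : O) = y'.out * x'.1 * y'.out⁻¹ →
      ((y'.out⁻¹ * y.out : O) : G) * c * ((y'.out⁻¹ * y.out : O) : G)⁻¹ = d ∨
        ((y'.out⁻¹ * y.out : O) : G) * c * ((y'.out⁻¹ * y.out : O) : G)⁻¹ = d * negOne F := by
    intro c d hc hd y x y' x' e
    refine conj_root h2 hc hd (SLTwo.mem_cent.1 x.2.1).2 x.2.2 (SLTwo.mem_cent.1 x'.2.1).2 ?_
    have e' := congrArg (Subtype.val) e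
    simp only [Subgroup.coe_mul, InvMemClass.coe_inv] at e' ⊢
    rw [show ((y'.out : O) : G)⁻¹ * y.out * x.1 * (((y'.out : O) : G)⁻¹ * y.out)⁻¹ =
      ((y'.out : O) : G)⁻¹ * (y.out * x.1 * ((y.out : O) : G)⁻¹) * y'.out by group, e']
    group
  have hsame : ∀ {c : G}, IsRoot c → ∀ (y : Q c) (x : T c) (y' : Q c) (x' : T c),
      (y.out * x.1 * y.out⁻¹ : O) = y'.out * x'.1 * y'.out⁻¹ → (y, x) = (y', x') := by
    intro c hc y x y' x' e
    have hn := hO.mem_cent (y'.out⁻¹ * y.out : O).2 (hcore hc hc y x y' x' e)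
    have hy : y = y' := by
      rw [← Quotient.out_eq y, ← Quotient.out_eq y']
      exact (QuotientGroup.eq.2 (Subgroup.mem_subgroupOf.2 hn)).symm
    subst hy
    exact Prod.ext rfl (Subtype.ext (mul_left_cancel (mul_right_cancel e)))
  have hf : Function.Injective f := by
    rintro (⟨y, x⟩ | ⟨y, x⟩) (⟨y', x'⟩ | ⟨y', x'⟩) e <;> have e' := congrArg Subtype.val e
    · exact congrArg Sum.inl (hsame ha y x y' x' e')
    · exact (hdisj _ (y'.out⁻¹ * y.out : O).2 (hcore ha hb y x y' x' e')).elim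
    · exact (hdisj _ (y.out⁻¹ * y'.out : O).2 (hcore ha hb y' x' y x e'.symm)).elim
    · exact congrArg Sum.inr (hsame hb y x y' x' e')
  have hle := Nat.card_le_card_of_injective f hf
  have hT : ∀ c, negOne F ∈ cent O c → Nat.card (T c) + 2 = Nat.card (cent O c) := by
    intro c hzc
    have e1 : Nat.card (T c) = ((cent O c : Set G) \ {1, negOne F}).ncard := by
      rw [← Nat.card_coe_set_eq]
      exact Nat.card_congr
        { toFun := fun x => ⟨x.1.1, x.2.1, by simp [x.2.2.1, x.2.2.2]⟩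
          invFun := fun x => ⟨⟨x.1, (mem_cent.1 x.2.1).1⟩, x.2.1, by simpa using x.2.2⟩ }
    have hsub : ({1, negOne F} : Set G) ⊆ (cent O c : Set G) := by
      rintro x (rfl | rfl)
      exacts [one_mem _, hzc]
    have h3 := Set.ncard_sdiff_add_ncard_of_subset hsub (Set.toFinite _)
    rw [Set.ncard_pair (Ne.symm hz1), ← Nat.card_coe_set_eq (cent O c : Set G)] at h3
    rw [e1]
    exact h3
  have hX : Nat.card {x : O // (x : G) ≠ 1 ∧ (x : G) ≠ negOne F} ≤ Nat.card O :=
    Nat.card_le_card_of_injective _ Subtype.val_injective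
  have hTa := hT a (SLTwo.mem_cent.2 ⟨hz, negOne_comm a⟩)
  have hTb := hT b (SLTwo.mem_cent.2 ⟨hz, negOne_comm b⟩)
  rw [Nat.card_sum, Nat.card_prod, Nat.card_prod, ← Subgroup.index_eq_card,
    ← Subgroup.index_eq_card] at hle
  change (cent O a).relIndex O * _ + (cent O b).relIndex O * _ ≤ _ at hle
  rw [show Nat.card (T a) = Nat.card (cent O a) - 2 by omega,
    show Nat.card (T b) = Nat.card (cent O b) - 2 by omega] at hle
  have := Nat.card_pos (α := O)
  omega

end Cfsg.Agent.Classical.OddIndex.SLTwo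

namespace Cfsg.Agent.Classical.OddIndex.SLTwo

open Matrix
open scoped MatrixGroups
open TorusNormalizer (negOne negOne_sq coe_negOne)

variable {F : Type*} [Field F] [Fintype F]

local notation "G" => SL(2, F)

/-- Equality up to sign. -/
def Pm (x y : SL(2, F)) : Prop := x = y ∨ x = y * negOne F

theorem Pm.rfl' (x : G) : Pm x x := Or.inl rfl

theorem Pm.neg (x : G) : Pm (x * negOne F) x := Or.inr rfl

theorem Pm.trans {x y z : G} (h : Pm x y) (h' : Pm y z) : Pm x z := by
  rcases h with rfl | rfl <;> rcases h' with rfl | rfl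
  · exact Or.inl rfl
  · exact Or.inr rfl
  · exact Or.inr rfl
  · exact Or.inl (by rw [mul_assoc, negOne_sq, mul_one])

theorem Pm.conj {x y : G} (h : Pm x y) (t : G) : Pm (t * x * t⁻¹) (t * y * t⁻¹) := by
  rcases h with rfl | rfl
  · exact Or.inl rfl
  · refine Or.inr ?_
    rw [show t * (y * negOne F) * t⁻¹ = t * y * (negOne F * t⁻¹) by group, negOne_comm t⁻¹,
      ← mul_assoc]

theorem Pm.mul {x y x' y' : G} (h : Pm x y) (h' : Pm x' y') : Pm (x * x') (y * y') := by
  rcases h with rfl | rfl <;> rcases h' with rfl | rfl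
  · exact Or.inl rfl
  · exact Or.inr (mul_assoc _ _ _).symm
  · exact Or.inr (by rw [mul_assoc, negOne_comm, ← mul_assoc])
  · exact Or.inl (by
      rw [mul_assoc, ← mul_assoc (negOne F), negOne_comm y', mul_assoc y', negOne_sq, mul_one])

theorem Pm.symm {x y : G} (h : Pm x y) : Pm y x := by
  rcases h with rfl | rfl
  · exact Or.inl rfl
  · exact Or.inr (by rw [mul_assoc, negOne_sq, mul_one])

/-- An element fixing a root up to sign has its square commuting with it. -/
theorem Pm.sq_comm {h u : G} (hu : Pm (h * u * h⁻¹) u) : (h * h) * u = u * (h * h) := by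
  have e : h * h * u * (h * h)⁻¹ = u := by
    rw [show h * h * u * (h * h)⁻¹ = h * (h * u * h⁻¹) * h⁻¹ by group]
    rcases hu with e | e
    · rw [e, e]
    · rw [e, show h * (u * negOne F) * h⁻¹ = h * u * (negOne F * h⁻¹) by group, negOne_comm h⁻¹,
        ← mul_assoc, e, mul_assoc, negOne_sq, mul_one]
  exact mul_inv_eq_iff_eq_mul.1 e

theorem ne_one_negOne (h2 : (2 : F) ≠ 0) : (1 : G) ≠ negOne F := by
  intro e
  have := congrArg (fun g : G => (g : Matrix (Fin 2) (Fin 2) F) 0 0) e
  simp [coe_negOne] at this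
  exact h2 (by linear_combination this)

theorem IsRoot.ne_pm (h2 : (2 : F) ≠ 0) {a : G} (ha : IsRoot a) : a ≠ 1 ∧ a ≠ negOne F := by
  constructor <;> rintro rfl
  · exact ne_one_negOne h2 (by simpa [IsRoot] using ha)
  · exact ne_one_negOne h2 ((negOne_sq (F := F)).symm.trans ha)

/-- The structure of the Sylow subgroup of order 8. -/
structure Quat (R : Subgroup SL(2, F)) : Prop where
  root : ∀ r ∈ R, r = 1 ∨ r = negOne F ∨ IsRoot r
  anti : ∀ r ∈ R, ∀ s ∈ R, r * s ≠ s * r → r * s = s * r * negOne F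
  pair : ∃ r ∈ R, ∃ s ∈ R, r * s ≠ s * r

theorem quat_of_card (h2 : (2 : F) ≠ 0) (R : Subgroup G) (h8 : Nat.card R = 8)
    (pair : ∃ r ∈ R, ∃ s ∈ R, r * s ≠ s * r) : Quat R := by
  classical
  have root : ∀ r ∈ R, r = 1 ∨ r = negOne F ∨ IsRoot r := by
    intro r hr
    have hdvd : orderOf r ∣ 2 ^ 3 := by
      rw [show (2 : ℕ) ^ 3 = Nat.card R from h8.symm]
      exact Subgroup.orderOf_dvd_natCard R hr
    obtain ⟨k, hk, hkr⟩ := (Nat.dvd_prime_pow Nat.prime_two).1 hdvd
    have hk2 : k ≤ 2 := by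
      by_contra hk2
      have hk3 : k = 3 := by omega
      subst hk3
      have he : Subgroup.zpowers r = R := Subgroup.eq_of_le_of_card_ge (Subgroup.zpowers_le.2 hr)
        (by rw [Nat.card_zpowers, hkr, h8]; norm_num)
      obtain ⟨x, hx, y, hy, hxy⟩ := pair
      rw [← he] at hx hy
      obtain ⟨i, rfl⟩ := hx
      obtain ⟨j, rfl⟩ := hy
      exact hxy ((Commute.refl r).zpow_zpow i j).eq
    have h4 : (r * r) * (r * r) = 1 := by
      rw [← sq, ← sq, ← pow_mul]
      exact orderOf_dvd_iff_pow_eq_one.1 (hkr ▸ pow_dvd_pow 2 hk2)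
    rcases eq_pm_of_sq h2 h4 with e | e
    · rcases eq_pm_of_sq h2 e with e' | e'
      · exact Or.inl e'
      · exact Or.inr (Or.inl e')
    · exact Or.inr (Or.inr e)
  refine ⟨root, fun r hr s hs hne => ?_, pair⟩
  have hr' : IsRoot r := by
    rcases root r hr with rfl | rfl | h
    · exact absurd (by simp) hne
    · exact absurd (negOne_comm s) hne
    · exact h
  have hs' : IsRoot s := by
    rcases root s hs with rfl | rfl | h
    · exact absurd (by simp) hne
    · exact absurd (negOne_comm r).symm hne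
    · exact h
  have hrs : IsRoot (r * s) := by
    rcases root (r * s) (mul_mem hr hs) with h | h | h
    · exact absurd (by rw [h, mul_eq_one_iff_inv_eq.1 h |>.symm, inv_mul_cancel]) hne
    · refine absurd ?_ hne
      have e : s = r⁻¹ * negOne F := eq_inv_mul_of_mul_eq h
      rw [h, e, mul_assoc, negOne_comm, ← mul_assoc, inv_mul_cancel, one_mul]
    · exact h
  have hri : r⁻¹ = r * negOne F :=
    inv_eq_of_mul_eq_one_right (by rw [← mul_assoc, hr', negOne_sq])
  have hsi : s⁻¹ = s * negOne F :=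
    inv_eq_of_mul_eq_one_right (by rw [← mul_assoc, hs', negOne_sq])
  calc r * s = negOne F * s⁻¹ * r⁻¹ := by
        rw [← show r * s * (r * s) = negOne F from hrs]; group
    _ = negOne F * (s * negOne F) * (r * negOne F) := by rw [hri, hsi]
    _ = s * (negOne F * negOne F) * (r * negOne F) := by
        rw [← mul_assoc (negOne F) s, negOne_comm s, mul_assoc s, mul_assoc s]
    _ = s * r * negOne F := by rw [negOne_sq, mul_one, mul_assoc]

theorem Quat.root_of_ne {R : Subgroup SL(2, F)} (hQ : Quat R) {r s : G} (hr : r ∈ R)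
    (h : r * s ≠ s * r) : IsRoot r := by
  rcases hQ.root r hr with rfl | rfl | h'
  · exact absurd (by simp) h
  · exact absurd (negOne_comm s) h
  · exact h'

variable {O : Subgroup SL(2, F)}

/-- A root acting without fixed points (up to sign) on a rigid group inverts it. -/
theorem inverts (h2 : (2 : F) ≠ 0) (hO : Rigid O) (O1 : Subgroup G) (hle : O1 ≤ O)
    (hz : negOne F ∈ O1) {u : G} (hu : IsRoot u) (hnu : ∀ x ∈ O1, u * x * u⁻¹ ∈ O1)
    (hfree : ∀ x ∈ O1, x * u = u * x → x = 1 ∨ x = negOne F) :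
    ∀ y ∈ O1, u * y * u⁻¹ = y⁻¹ := by
  classical
  let Zs : Subgroup O1 := Subgroup.zpowers ⟨(negOne F), hz⟩
  let f : (O1 ⧸ Zs) × Bool → O1 := fun p =>
    ⟨(p.1.out : G)⁻¹ * (u * (p.1.out : G) * u⁻¹) * (if p.2 then (negOne F) else 1),
      mul_mem (mul_mem (inv_mem p.1.out.2) (hnu _ p.1.out.2)) (by split_ifs; exacts [hz, one_mem _])⟩
  have hf : Function.Injective f := by
    rintro ⟨X, i⟩ ⟨Y, j⟩ e
    have e' := congrArg Subtype.val e
    simp only [f] at e'
    set x : G := (X.out : G)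
    set y : G := (Y.out : G)
    set n := y * x⁻¹
    have hn : n ∈ O1 := mul_mem Y.out.2 (inv_mem X.out.2)
    have hnn : Pm (u * n * u⁻¹) n := by
      have h1 : Pm (x⁻¹ * (u * x * u⁻¹)) (y⁻¹ * (u * y * u⁻¹)) := by
        rcases i with _ | _ <;> rcases j with _ | _ <;>
          simp only [if_true, if_false, Bool.false_eq_true, mul_one] at e'
        · exact Or.inl e'
        · exact Or.inr e'
        · exact (show Pm (y⁻¹ * (u * y * u⁻¹)) (x⁻¹ * (u * x * u⁻¹)) from Or.inr e'.symm).symm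
        · exact Or.inl (mul_right_cancel e')
      have h2' := (Pm.rfl' y).mul (h1.symm.mul (Pm.rfl' (u * x⁻¹ * u⁻¹)))
      have ea : y * (y⁻¹ * (u * y * u⁻¹) * (u * x⁻¹ * u⁻¹)) = u * n * u⁻¹ := by
        simp only [n]; group
      have eb : y * (x⁻¹ * (u * x * u⁻¹) * (u * x⁻¹ * u⁻¹)) = n := by
        simp only [n]; group
      rwa [ea, eb] at h2'
    have hnu' : n * u = u * n := by
      rcases hnn with h | h
      · exact (mul_inv_eq_iff_eq_mul.1 h).symm
      · exfalso
        have h' : n * u * n⁻¹ = u * negOne F := by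
          have e1 : u * n = n * (negOne F * u) :=
            calc u * n = u * n * u⁻¹ * u := (inv_mul_cancel_right _ _).symm
              _ = n * negOne F * u := by rw [h]
              _ = n * (negOne F * u) := mul_assoc _ _ _
          have e2 : n * u = u * n * negOne F := by
            rw [e1, negOne_comm u, ← mul_assoc n u, mul_assoc (n * u), negOne_sq, mul_one]
          rw [e2, show u * n * negOne F * n⁻¹ = u * (n * (negOne F * n⁻¹)) by group, negOne_comm n⁻¹,
            ← mul_assoc n, mul_inv_cancel, one_mul]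
        have := hO n (hle hn) u h'
        rw [← this] at h
        have e3 : n * u * u⁻¹ = n * negOne F := h
        rw [mul_inv_cancel_right] at e3
        exact ne_one_negOne h2 (mul_left_cancel ((mul_one n).trans e3))
    have hXY : X = Y := by
      rw [← Quotient.out_eq X, ← Quotient.out_eq Y]
      refine QuotientGroup.eq.2 ?_
      rcases hfree n hn hnu' with e1 | e1
      · rw [show X.out = Y.out from Subtype.ext (mul_inv_eq_one.1 e1).symm, inv_mul_cancel]
        exact one_mem _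
      · have e2 : (X.out⁻¹ * Y.out : O1) = ⟨(negOne F), hz⟩ := Subtype.ext (by
          show x⁻¹ * y = (negOne F)
          rw [mul_inv_eq_iff_eq_mul.1 e1, negOne_comm x, ← mul_assoc, inv_mul_cancel, one_mul])
        rw [e2]
        exact Subgroup.mem_zpowers _
    subst hXY
    refine Prod.ext rfl ?_
    rcases i with _ | _ <;> rcases j with _ | _ <;>
      simp only [if_true, if_false, Bool.false_eq_true] at e' ⊢
    · exact absurd (mul_left_cancel e') (ne_one_negOne h2)
    · exact absurd (mul_left_cancel e').symm (ne_one_negOne h2)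
  have hcard : Nat.card ((O1 ⧸ Zs) × Bool) = Nat.card O1 := by
    have hoz : Nat.card Zs = 2 := by
      have : Fact (Nat.Prime 2) := ⟨Nat.prime_two⟩
      rw [Nat.card_zpowers]
      exact orderOf_eq_prime (by rw [sq]; exact Subtype.ext negOne_sq)
        (fun e => ne_one_negOne h2 (congrArg Subtype.val e).symm)
    have h := Subgroup.card_mul_index Zs
    rw [hoz] at h
    rw [Nat.card_prod, ← Subgroup.index_eq_card, Nat.card_eq_fintype_card (α := Bool),
      Fintype.card_bool, mul_comm]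
    exact h
  have hbij : Function.Bijective f :=
    (Nat.bijective_iff_injective_and_card f).2 ⟨hf, hcard⟩
  intro y hy
  obtain ⟨⟨X, i⟩, hX⟩ := hbij.2 ⟨y, hy⟩
  have hy' : y = (f (X, i) : G) := by rw [hX]
  set x : G := (X.out : G)
  have huu : u * u * x = x * (u * u) := by rw [show u * u = (negOne F) from hu]; exact negOne_comm x
  have hbase : u * (x⁻¹ * (u * x * u⁻¹)) * u⁻¹ = (x⁻¹ * (u * x * u⁻¹))⁻¹ := by
    calc u * (x⁻¹ * (u * x * u⁻¹)) * u⁻¹ = u * x⁻¹ * u⁻¹ * ((u * u * x) * (u * u)⁻¹) := by group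
      _ = _ := by rw [huu, mul_inv_cancel_right]; group
  rw [hy']
  rcases i with _ | _ <;> simp only [f, if_true, if_false, Bool.false_eq_true, mul_one]
  · exact hbase
  · have hzi : (negOne F)⁻¹ = (negOne F) := inv_eq_of_mul_eq_one_right negOne_sq
    rw [_root_.mul_inv_rev _ (negOne F), hzi, negOne_comm,
      show u * (x⁻¹ * (u * x * u⁻¹) * (negOne F)) * u⁻¹ = u * (x⁻¹ * (u * x * u⁻¹)) * ((negOne F) * u⁻¹) by group,
      negOne_comm u⁻¹, ← mul_assoc, hbase]

set_option maxHeartbeats 1000000 in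
/-- The odd part of a subgroup in which the Sylow subgroup is self-normalising. -/
theorem exists_odd_part (h2 : (2 : F) ≠ 0) (R : Sylow 2 G) (hQ : Quat (R : Subgroup G))
    (hzR : negOne F ∈ R) (J : Subgroup G) (hRJ : (R : Subgroup G) ≤ J)
    (hNJ : ∀ x ∈ J, x ∈ Subgroup.normalizer ((R : Subgroup G) : Set G) → x ∈ R) :
    ∃ (O : Subgroup G) (m : ℕ), Odd m ∧ Nat.card O = 2 * m ∧ negOne F ∈ O ∧
      (∀ r ∈ J, ∀ x ∈ O, r * x * r⁻¹ ∈ O) ∧
      (∀ x ∈ J, (x ^ m = 1 ∨ x ^ m = negOne F) → x ∈ O) ∧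
      ∀ K : Subgroup G, K ≤ J → (∀ x ∈ K ⊓ O, x = 1 ∨ x = negOne F) →
        Nat.card K ≤ Nat.card (R : Subgroup G) := by
  classical
  have : Fact (Nat.Prime 2) := ⟨Nat.prime_two⟩
  let zJ : J := ⟨negOne F, hRJ hzR⟩
  let Zc : Subgroup J := Subgroup.zpowers zJ
  have hZn : Zc.Normal := ⟨fun a ha g => by
    obtain ⟨i, rfl⟩ := ha
    have hc : Commute g zJ := Subtype.ext (negOne_comm (g : G)).symm
    show g * zJ ^ i * g⁻¹ ∈ Zc
    rw [(hc.zpow_right i).eq, mul_inv_cancel_right]
    exact zpow_mem (Subgroup.mem_zpowers _) i⟩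
  let φ := QuotientGroup.mk' Zc
  let P : Sylow 2 J := R.subtype hRJ
  have hφ : Function.Surjective φ := QuotientGroup.mk'_surjective Zc
  let Pb : Sylow 2 (J ⧸ Zc) := P.mapSurjective hφ
  have hker : φ.ker = Zc := QuotientGroup.ker_mk' Zc
  have hφz : φ zJ = 1 := (QuotientGroup.eq_one_iff zJ).2 (Subgroup.mem_zpowers zJ)
  have hcomap : (Pb : Subgroup (J ⧸ Zc)).comap φ = (P : Subgroup J) := by
    rw [Sylow.coe_mapSurjective, Subgroup.comap_map_eq, hker]
    refine sup_eq_left.2 (Subgroup.zpowers_le.2 ?_)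
    show (zJ : G) ∈ (R : Subgroup G)
    exact hzR
  have hPc : Subgroup.normalizer ((Pb : Subgroup (J ⧸ Zc)) : Set (J ⧸ Zc)) ≤
      Subgroup.centralizer ((Pb : Subgroup (J ⧸ Zc)) : Set (J ⧸ Zc)) := by
    intro y hy
    obtain ⟨x, rfl⟩ := hφ y
    have key : ∀ s : J, s ∈ (P : Subgroup J) ↔ x * s * x⁻¹ ∈ (P : Subgroup J) := by
      intro s
      rw [← hcomap, Subgroup.mem_comap, Subgroup.mem_comap, map_mul, map_mul, map_inv]
      exact Subgroup.mem_normalizer_iff.1 hy _
    have hxP : x ∈ (P : Subgroup J) := by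
      refine hNJ (x : G) x.2 (Subgroup.mem_normalizer_iff.2 fun r => ⟨fun hr => (key ⟨r, hRJ hr⟩).1 hr,
        fun hr => ?_⟩)
      have hrJ : r ∈ J := by
        have := J.mul_mem (J.mul_mem (J.inv_mem x.2) (hRJ hr)) x.2
        rwa [show (x : G)⁻¹ * ((x : G) * r * (x : G)⁻¹) * x = r by group] at this
      exact (key ⟨r, hrJ⟩).2 hr
    rw [Subgroup.mem_centralizer_iff]
    intro w hw
    obtain ⟨s, rfl⟩ := hφ w
    have hs : s ∈ (P : Subgroup J) := by rw [← hcomap]; exact hw
    by_cases hc : (s : G) * x = x * s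
    · rw [← map_mul, ← map_mul, show s * x = x * s from Subtype.ext hc]
    · rw [← map_mul, ← map_mul, show s * x = x * s * zJ from Subtype.ext (hQ.anti _ hs _ hxP hc),
        map_mul φ (x * s), hφz, mul_one]
  set ψ := MonoidHom.transferSylow Pb hPc with hψ
  have hcompl := MonoidHom.ker_transferSylow_isComplement' Pb hPc
  rw [← hψ] at hcompl
  set m := Nat.card ψ.ker with hm
  have hmul : m * Nat.card (Pb : Subgroup (J ⧸ Zc)) = Nat.card (J ⧸ Zc) := hcompl.card_mul
  have hmodd : Odd m := by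
    rw [← Nat.not_even_iff_odd, even_iff_two_dvd]
    intro h
    refine Pb.not_dvd_index ?_
    have h1 := Subgroup.card_mul_index (Pb : Subgroup (J ⧸ Zc))
    rw [← hmul, mul_comm m] at h1
    rwa [Nat.eq_of_mul_eq_mul_left Nat.card_pos h1]
  have hzc2 : Nat.card Zc = 2 := by
    rw [Nat.card_zpowers]
    exact orderOf_eq_prime (by rw [sq]; exact Subtype.ext negOne_sq)
      (fun e => ne_one_negOne h2 (congrArg Subtype.val e).symm)
  set M := ψ.ker.comap φ with hM
  have hcardM : Nat.card M = 2 * m := by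
    have h := Subgroup.card_mul_index M
    rw [hM, Subgroup.index_comap_of_surjective _ hφ, ← hM] at h
    have h1 := Subgroup.card_mul_index ψ.ker
    have h3 := Subgroup.card_eq_card_quotient_mul_card_subgroup Zc
    rw [← h1, ← h, hzc2] at h3
    refine Nat.eq_of_mul_eq_mul_right (Nat.pos_of_ne_zero
      (Subgroup.index_ne_zero_of_finite (H := ψ.ker))) ?_
    rw [h3, hm]; ring
  refine ⟨M.map J.subtype, m, hmodd, by rw [Subgroup.card_subtype, hcardM],
    ⟨zJ, ?_, rfl⟩, ?_, ?_, ?_⟩
  · show φ zJ ∈ ψ.ker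
    rw [hφz]; exact one_mem _
  · rintro r hr _ ⟨x, hx, rfl⟩
    refine ⟨⟨r, hr⟩ * x * ⟨r, hr⟩⁻¹, ?_, rfl⟩
    exact ((MonoidHom.normal_ker ψ).comap φ).conj_mem x hx _
  · intro x hx hxm
    refine ⟨⟨x, hx⟩, ?_, rfl⟩
    show φ ⟨x, hx⟩ ∈ ψ.ker
    rw [MonoidHom.mem_ker]
    have hym : φ ⟨x, hx⟩ ^ m = 1 := by
      rw [← map_pow]
      rcases hxm with e | e
      · rw [show (⟨x, hx⟩ : J) ^ m = 1 from Subtype.ext e, map_one]
      · rw [show (⟨x, hx⟩ : J) ^ m = zJ from Subtype.ext e, hφz]
    have hd1 : orderOf (ψ (φ ⟨x, hx⟩)) ∣ m :=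
      orderOf_dvd_iff_pow_eq_one.2 (by rw [← map_pow, hym, map_one])
    obtain ⟨k, hk⟩ := IsPGroup.iff_orderOf.1 Pb.2 (ψ (φ ⟨x, hx⟩))
    rw [hk] at hd1
    rcases Nat.eq_zero_or_pos k with rfl | hk0
    · exact orderOf_eq_one_iff.1 (by rw [hk, pow_zero])
    · exact absurd ((dvd_pow_self 2 hk0.ne').trans hd1) (fun h =>
        Nat.not_even_iff_odd.2 hmodd (even_iff_two_dvd.2 h))
  · intro K hKJ hK
    let f : K →* (Pb : Subgroup (J ⧸ Zc)) := (ψ.comp φ).comp (Subgroup.inclusion hKJ)
    have hfker : Nat.card f.ker ≤ 2 := by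
      refine le_trans (Nat.card_le_card_of_injective
        (fun x : f.ker => (⟨⟨x.1.1, hKJ x.1.2⟩, ?_⟩ : Zc)) ?_) hzc2.le
      · rcases hK x.1.1 ⟨x.1.2, ⟨_, x.2, rfl⟩⟩ with e | e
        · rw [show (⟨x.1.1, hKJ x.1.2⟩ : J) = 1 from Subtype.ext e]
          exact one_mem _
        · rw [show (⟨x.1.1, hKJ x.1.2⟩ : J) = zJ from Subtype.ext e]
          exact Subgroup.mem_zpowers _
      · intro x y e
        exact Subtype.ext (Subtype.ext (congrArg (fun w : Zc => ((w : J) : G)) e))
    have hPb : 2 * Nat.card (Pb : Subgroup (J ⧸ Zc)) = Nat.card (R : Subgroup G) := by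
      have h := Subgroup.card_mul_index (P : Subgroup J)
      rw [← hcomap, Subgroup.index_comap_of_surjective _ hφ, hcomap] at h
      have h1 := Subgroup.card_mul_index (Pb : Subgroup (J ⧸ Zc))
      have h3 := Subgroup.card_eq_card_quotient_mul_card_subgroup Zc
      rw [← h1, ← h, hzc2] at h3
      have hP : Nat.card (P : Subgroup J) = Nat.card (R : Subgroup G) :=
        Nat.card_congr (Subgroup.subgroupOfEquivOfLe hRJ).toEquiv
      rw [← hP]
      refine Nat.eq_of_mul_eq_mul_right (Nat.pos_of_ne_zero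
        (Subgroup.index_ne_zero_of_finite (H := (Pb : Subgroup (J ⧸ Zc))))) ?_
      rw [h3]; ring
    rw [← hPb, ← Subgroup.card_mul_index f.ker, Subgroup.index_ker]
    exact Nat.mul_le_mul hfker (Subgroup.card_le_card_group _)

/-- Three pairwise non-commuting elements of a quaternion group multiply to `±1`. -/
theorem eq_pm_mul_of_anti (h2 : (2 : F) ≠ 0) (R : Subgroup G) (hQ : Quat R) {u b w : G}
    (huR : u ∈ R) (hbR : b ∈ R) (hwR : w ∈ R) (hub : u * b ≠ b * u) (huw : u * w ≠ w * u)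
    (hwb : w * b ≠ b * w) : Pm w (u * b) := by
  have hu := hQ.root_of_ne huR hub
  have hbu2 := hQ.anti _ hbR _ huR (Ne.symm hub)
  have hub2 := hQ.anti _ huR _ hbR hub
  have hwu2 := hQ.anti _ hwR _ huR (Ne.symm huw)
  have hwb2 := hQ.anti _ hwR _ hbR hwb
  have hzz : ∀ g : G, negOne F * g = g * negOne F := negOne_comm
  have hzz' : ∀ g h : G, negOne F * (g * h) = g * (negOne F * h) := fun g h => by
    rw [← mul_assoc, hzz g, mul_assoc]
  have c1 : (w * (u * b)) * u = u * (w * (u * b)) := by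
    calc (w * (u * b)) * u = (w * u) * (b * u) := by group
      _ = (u * w * negOne F) * (u * b * negOne F) := by rw [hwu2, hbu2]
      _ = u * w * (u * b) * (negOne F * negOne F) := by
          rw [mul_assoc (u * w), hzz', ← mul_assoc]
      _ = u * (w * (u * b)) := by rw [negOne_sq, mul_one, mul_assoc]
  have c2 : (w * (u * b)) * b = b * (w * (u * b)) := by
    calc (w * (u * b)) * b = w * (u * b) * b := rfl
      _ = w * (b * u * negOne F) * b := by rw [← hub2]
      _ = (w * b) * u * (negOne F * b) := by group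
      _ = (b * w * negOne F) * u * (b * negOne F) := by rw [hwb2, hzz b]
      _ = (b * w) * (u * b) * (negOne F * negOne F) := by
          rw [mul_assoc (b * w) (negOne F) u, hzz u, mul_assoc (b * w), mul_assoc u, hzz' b,
            ← mul_assoc u b, ← mul_assoc (b * w)]
      _ = b * (w * (u * b)) := by rw [negOne_sq, mul_one, mul_assoc]
  have hpm : Pm (w * (u * b)) 1 := by
    rcases eq_pm_of_comm_two h2 hu hub c1 c2 with e | e
    · exact Or.inl e
    · exact Or.inr (e.trans (one_mul _).symm)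
  have hubr : IsRoot (u * b) := by
    refine hQ.root_of_ne (mul_mem huR hbR) (s := u) fun e => hub ?_
    rw [mul_assoc] at e; exact (mul_left_cancel e).symm
  have hwub : Pm w (u * b) := by
    have h3 : Pm (w * ((u * b) * (u * b))) (1 * (u * b)) := by
      rw [← mul_assoc]; exact hpm.mul (Pm.rfl' _)
    rw [hubr, one_mul] at h3
    exact (Pm.neg w).symm.trans h3
  exact hwub

/-- An element of the normaliser fixing a root up to sign lies in the Sylow subgroup. -/
theorem pow_eight_of_fix (h2 : (2 : F) ≠ 0) (R : Subgroup G) (hQ : Quat R) {t u b : G}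
    (ht : ∀ x ∈ R, t * x * t⁻¹ ∈ R) (huR : u ∈ R) (hbR : b ∈ R)
    (hub : u * b ≠ b * u) (hvu : Pm (t * u * t⁻¹) u) : t ^ (2 ^ 3) = 1 := by
  have hu := hQ.root_of_ne huR hub
  have hbr := hQ.root_of_ne hbR (Ne.symm hub)
  set w := t * b * t⁻¹ with hw
  have hwR : w ∈ R := ht b hbR
  have huw : u * w ≠ w * u := by
    intro e
    refine hub ?_
    have e1 : (t * u * t⁻¹) * w = w * (t * u * t⁻¹) := by
      rcases hvu with h | h <;> rw [h]
      · exact e
      · rw [mul_assoc, negOne_comm w, ← mul_assoc, e, mul_assoc]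
    have e2 : t * (u * b) * t⁻¹ = t * (b * u) * t⁻¹ := by
      rw [hw] at e1
      calc t * (u * b) * t⁻¹ = t * u * t⁻¹ * (t * b * t⁻¹) := by group
        _ = _ := e1
        _ = _ := by group
    exact mul_left_cancel (mul_right_cancel e2)
  have hwr := hQ.root_of_ne hwR (Ne.symm huw)
  have hh : Pm (t * t * b * (t * t)⁻¹) b := by
    have e0 : t * t * b * (t * t)⁻¹ = t * w * t⁻¹ := by rw [hw]; group
    rw [e0]
    by_cases hwb : w * b = b * w
    · have h : Pm w b := eq_pm_of_comm h2 hbr hwr hwb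
      exact (h.conj t).trans h
    · have hwub := eq_pm_mul_of_anti h2 R hQ huR hbR hwR hub huw hwb
      have h4 : Pm (t * w * t⁻¹) (u * (u * b)) := by
        refine (hwub.conj t).trans ?_
        rw [show t * (u * b) * t⁻¹ = t * u * t⁻¹ * (t * b * t⁻¹) by group]
        exact hvu.mul hwub
      rw [← mul_assoc u u b, hu, negOne_comm b] at h4
      exact h4.trans (Pm.neg b)
  have hh' : Pm (t * t * u * (t * t)⁻¹) u := by
    rw [show t * t * u * (t * t)⁻¹ = t * (t * u * t⁻¹) * t⁻¹ by group]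
    exact (hvu.conj t).trans hvu
  have h4 := eq_pm_of_comm_two h2 hu hub hh'.sq_comm hh.sq_comm
  have e : t ^ (2 ^ 3) = (t * t * (t * t)) * (t * t * (t * t)) := by
    simp only [← sq, ← pow_mul]; norm_num
  rw [e]
  rcases h4 with h4 | h4 <;> rw [h4]
  · exact one_mul 1
  · exact negOne_sq

theorem factorization_of_mod_eight {m : ℕ} (hm : m % 8 = 4) : m.factorization 2 = 2 := by
  have a := (Nat.Prime.pow_dvd_iff_le_factorization Nat.prime_two (show m ≠ 0 by omega)).1
    (show 2 ^ 2 ∣ m by norm_num; omega)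
  by_contra hne
  have := (Nat.Prime.pow_dvd_iff_le_factorization Nat.prime_two (show m ≠ 0 by omega)).2
    (show 3 ≤ m.factorization 2 by omega)
  norm_num at this; omega

theorem factorization_of_mod_four {m : ℕ} (hm : m % 4 = 2) : m.factorization 2 = 1 := by
  have a := (Nat.Prime.pow_dvd_iff_le_factorization Nat.prime_two (show m ≠ 0 by omega)).1
    (show 2 ^ 1 ∣ m by norm_num; omega)
  by_contra hne
  have := (Nat.Prime.pow_dvd_iff_le_factorization Nat.prime_two (show m ≠ 0 by omega)).2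
    (show 2 ≤ m.factorization 2 by omega)
  norm_num at this; omega

/-- The subgroups of odd index containing the centre are pronormal. -/
theorem isPronormal (hodd : Odd (Fintype.card F)) (K : Subgroup G) (hzK : negOne F ∈ K)
    (hidx : Odd K.index) : Cfsg.IsPronormal K := by
  classical
  have h2 : (2 : F) ≠ 0 := SylowSL2.two_ne_zero_of_odd hodd
  refine of_sylow_normalizer K hidx fun R hR t ht => ?_
  by_cases htR : t ∈ R
  · exact ⟨t, Subgroup.mem_sup_left (hR htR), rfl⟩
  obtain ⟨hcent, h17, h35⟩ := Cfsg.Agent.S2431.result hodd R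
  have hq2 : Fintype.card F % 2 = 1 := Nat.odd_iff.1 hodd
  have h8q : Fintype.card F % 8 = 3 ∨ Fintype.card F % 8 = 5 := by
    by_contra hne
    refine htR ?_
    have h := h17 (by omega)
    rw [h] at ht
    exact ht
  have hN := h35 h8q
  set J := K ⊔ K.map (MulAut.conj t).toMonoidHom with hJ
  set N := Subgroup.normalizer ((R : Subgroup G) : Set G) with hNdef
  by_cases hNJ : ∃ x ∈ J, x ∈ N ∧ x ∉ R
  · obtain ⟨x, hxJ, hxN, hxR⟩ := hNJ
    refine ⟨t, ?_, rfl⟩
    have hle : (R : Subgroup G) ≤ J ⊓ N :=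
      le_inf (hR.trans le_sup_left) Subgroup.le_normalizer
    obtain ⟨k, hk⟩ := Subgroup.card_dvd_of_le hle
    have hdvd : Nat.card (J ⊓ N : Subgroup G) ∣ Nat.card N := Subgroup.card_dvd_of_le inf_le_right
    rw [hk, hN, mul_comm 3] at hdvd
    rcases (Nat.dvd_prime Nat.prime_three).1 ((Nat.mul_dvd_mul_iff_left Nat.card_pos).1 hdvd) with
      h1 | h3
    · exfalso
      have he := Subgroup.eq_of_le_of_card_ge hle (by rw [hk, h1, mul_one])
      have : x ∈ (R : Subgroup G) := he ▸ ⟨hxJ, hxN⟩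
      exact hxR this
    · have he : J ⊓ N = N := Subgroup.eq_of_le_of_card_ge inf_le_right
        (by rw [hk, h3, hN, mul_comm])
      exact (he.symm ▸ ht : t ∈ J ⊓ N).1
  push Not at hNJ
  have : Fact (Nat.Prime 2) := ⟨Nat.prime_two⟩
  have hq1 := Fintype.one_lt_card (α := F)
  have hR8 : Nat.card (R : Subgroup G) = 8 := by
    rw [R.card_eq_multiplicity, SylowSL2.factorization_natCard_SL_two Nat.prime_two (by omega)]
    rcases h8q with h | h
    · rw [factorization_of_mod_four (m := Fintype.card F - 1) (by omega),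
        factorization_of_mod_eight (m := Fintype.card F + 1) (by omega)]; norm_num
    · rw [factorization_of_mod_eight (m := Fintype.card F - 1) (by omega),
        factorization_of_mod_four (m := Fintype.card F + 1) (by omega)]; norm_num
  have hQ : Quat (R : Subgroup G) := quat_of_card h2 _ hR8 (by
    by_contra h
    push Not at h
    have hle : (R : Subgroup G) ≤ Subgroup.center G := fun x hx =>
      hcent ▸ Subgroup.mem_centralizer_iff.2 fun s hs => h s hs x hx
    have hcz : Nat.card (Subgroup.center G) ≤ 2 := by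
      rw [Linear.natCard_center_SL (n := Fin 2), Fintype.card_fin]
      exact Nat.le_of_dvd two_pos (Nat.gcd_dvd_left _ _)
    have := Subgroup.card_le_of_le hle
    omega)
  have hzR : negOne F ∈ R := by
    refine mem_of_two_element R (a := 1) (by rw [pow_one, sq, negOne_sq]) ?_
    refine Subgroup.mem_normalizer_iff.2 fun r => ?_
    rw [negOne_comm r, mul_inv_cancel_right]
  obtain ⟨O, m, hmodd, hcardO, hzO, hnO, hmemO, hsmall⟩ :=
    exists_odd_part h2 R hQ hzR J (hR.trans le_sup_left) hNJ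
  have hrig : Rigid O := rigid_of_card h2 hmodd hcardO
  have hRJ : (R : Subgroup G) ≤ J := hR.trans le_sup_left
  set O1 := K ⊓ O with hO1
  have hzO1 : negOne F ∈ O1 := ⟨hzK, hzO⟩
  have hnO1 : ∀ r ∈ R, ∀ x ∈ O1, r * x * r⁻¹ ∈ O1 := fun r hr x hx =>
    have hrK : r ∈ K := hR hr
    ⟨K.mul_mem (K.mul_mem hrK hx.1) (K.inv_mem hrK), hnO r (hRJ hr) x hx.2⟩
  by_cases hbig : ∀ x ∈ O1, x = 1 ∨ x = negOne F
  · have hK : K = R := (Subgroup.eq_of_le_of_card_ge hR (hsmall K le_sup_left hbig)).symm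
    refine ⟨1, one_mem _, ?_⟩
    rw [map_conj_one, hK, map_conj_eq_self ht]
  exfalso
  push Not at hbig
  obtain ⟨x₀, hx₀, hx₀1, hx₀z⟩ := hbig
  obtain ⟨r, hr, s, hs, hrs⟩ := hQ.pair
  have hrs' : (r * s) * r ≠ r * (r * s) := fun e => hrs (by
    rw [mul_assoc] at e; exact (mul_left_cancel e).symm)
  -- a root with a fixed point
  obtain ⟨u, huR, ⟨b, hb, hub⟩, x, hx, hxu, hx1, hxz⟩ : ∃ u ∈ R, (∃ v ∈ R, u * v ≠ v * u) ∧
      ∃ x ∈ O1, x * u = u * x ∧ x ≠ 1 ∧ x ≠ negOne F := by
    by_contra hno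
    push Not at hno
    have free : ∀ a b : G, a ∈ R → b ∈ R → a * b ≠ b * a → ∀ y ∈ O1, a * y * a⁻¹ = y⁻¹ :=
      fun a b ha hb hab => inverts h2 hrig O1 inf_le_right hzO1 (hQ.root_of_ne ha hab) (hnO1 a ha)
        fun x hx e => by
          by_cases h1 : x = 1
          · exact Or.inl h1
          · exact Or.inr (hno a ha ⟨b, hb, hab⟩ x hx e h1)
    refine hx₀z (hno (r * s) (mul_mem hr hs) ⟨r, hr, hrs'⟩ x₀ hx₀ ?_ hx₀1)
    refine (mul_inv_eq_iff_eq_mul.1 ?_).symm
    rw [show r * s * x₀ * (r * s)⁻¹ = r * (s * x₀ * s⁻¹) * r⁻¹ by group,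
      free s r hs hr (Ne.symm hrs) x₀ hx₀, free r s hr hs hrs _ (inv_mem hx₀), inv_inv]
  have hu := hQ.root_of_ne huR hub
  set v := t * u * t⁻¹ with hv
  have hvR : v ∈ R := (Subgroup.mem_normalizer_iff.1 ht u).1 huR
  have hvr : IsRoot v := by
    show v * v = negOne F
    rw [hv, show t * u * t⁻¹ * (t * u * t⁻¹) = t * (u * u) * t⁻¹ by group, hu, ← negOne_comm t,
      mul_inv_cancel_right]
  by_cases huv' : u * v = v * u
  · exact htR (mem_of_two_element R (pow_eight_of_fix h2 _ hQ
      (fun y hy => (Subgroup.mem_normalizer_iff.1 ht y).1 hy) huR hb hub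
      (eq_pm_of_comm h2 hu hvr huv'.symm)) ht)
  · have h1 : x ^ m * x ^ m = 1 := by
      rw [← pow_add, ← two_mul, ← hcardO]
      exact orderOf_dvd_iff_pow_eq_one.1 (Subgroup.orderOf_dvd_natCard O hx.2)
    have hxtO : t * x * t⁻¹ ∈ O := by
      refine hmemO _ (Subgroup.mem_sup_right ⟨x, hx.1, rfl⟩) ?_
      rw [conj_pow]
      rcases eq_pm_of_sq h2 h1 with e | e <;> rw [e]
      · exact Or.inl (by rw [mul_one, mul_inv_cancel])
      · exact Or.inr (by rw [← negOne_comm t, mul_inv_cancel_right])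
    refine not_both h2 hrig hmodd hcardO hzO hu hvr (hQ.anti _ huR _ hvR huv')
      (fun y hy => hnO u (hRJ huR) y hy) ⟨x, hx.2, hxu, hx1, hxz⟩ ⟨_, hxtO, ?_, ?_, ?_⟩
    · rw [hv, show t * x * t⁻¹ * (t * u * t⁻¹) = t * (x * u) * t⁻¹ by group, hxu]; group
    · exact fun e => hx1 (conj_eq_one_iff.1 e)
    · intro e
      rw [mul_inv_eq_iff_eq_mul, negOne_comm] at e
      exact hxz (mul_left_cancel e)

end Cfsg.Agent.Classical.OddIndex.SLTwo
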