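import Mathlib
import Cfsg.Agent.Lib.Classical.OddIndex.SLTwo

/-!
# Sylow 2-subgroups of two-dimensional groups in odd characteristic
-/

set_option autoImplicit false
set_option linter.unusedSectionVars false

namespace Cfsg.Agent.Classical.OddIndex.OddBase

open Matrix
open scoped MatrixGroups
open TorusNormalizer (negOne negOne_sq coe_negOne)

universe u v

variable {F : Type u} [Field F] [Fintype F] {n : ℕ}

/-- A matrix which is a scalar. -/
def IsScalar (g : GL (Fin n) F) : Prop :=
  ∃ a : F, (g : Matrix (Fin n) (Fin n) F) = a • (1 : Matrix (Fin n) (Fin n) F)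

theorem IsScalar.comm {g : GL (Fin n) F} (h : IsScalar g) (x : GL (Fin n) F) : g * x = x * g := by
  obtain ⟨a, ha⟩ := h
  refine Units.ext ?_
  rw [Units.val_mul, Units.val_mul, ha, Matrix.smul_mul, Matrix.mul_smul, one_mul, mul_one]

/-- The scalar matrices. -/
def scal (n : ℕ) (F : Type u) [Field F] : Fˣ →* GL (Fin n) F :=
  Units.map (Matrix.scalar (Fin n) : F →+* Matrix (Fin n) (Fin n) F).toMonoidHom

theorem coe_scal (μ : Fˣ) :
    ((scal n F μ : GL (Fin n) F) : Matrix (Fin n) (Fin n) F) = (μ : F) • 1 := by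
  simp [scal, Matrix.smul_one_eq_diagonal]

theorem isScalar_scal (μ : Fˣ) : IsScalar (scal n F μ) := ⟨μ, coe_scal μ⟩

theorem det_scal (μ : Fˣ) : GeneralLinearGroup.det (scal n F μ) = μ ^ n := by
  refine Units.ext ?_
  rw [GeneralLinearGroup.val_det_apply, coe_scal, det_smul, det_one, mul_one, Fintype.card_fin,
    Units.val_pow_eq_pow_val]

theorem IsScalar.mul {g h : GL (Fin n) F} (hg : IsScalar g) (hh : IsScalar h) : IsScalar (g * h) := by
  obtain ⟨a, ha⟩ := hg
  obtain ⟨b, hb⟩ := hh
  exact ⟨a * b, by rw [Units.val_mul, ha, hb, Matrix.smul_mul, Matrix.mul_smul, one_mul, smul_smul]⟩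

theorem IsScalar.one : IsScalar (1 : GL (Fin n) F) := ⟨1, by simp⟩

/-- The inductive invariant of a Sylow 2-subgroup. -/
structure Good (X S : Subgroup (GL (Fin n) F)) : Prop where
  le : S ≤ X
  card : Nat.card S = 2 ^ (Nat.card X).factorization 2
  neg : scal n F (-1) ∈ S
  nonscalar : ∃ c ∈ S, GeneralLinearGroup.det c = 1 ∧ ¬ IsScalar c
  cent : ∀ g ∈ X, (∀ c ∈ S, GeneralLinearGroup.det c = 1 → g * c = c * g) → IsScalar g
  norm : ∀ g ∈ X, Odd (orderOf g) → (∀ c ∈ S, g * c * g⁻¹ ∈ S) → IsScalar g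

theorem factorization_two_of_pow {G : Type*} [Group G] [Finite G] {K : Subgroup G}
    (hK : IsPGroup 2 K) : ∃ k, Nat.card K = 2 ^ k ∧ k ≤ (Nat.card G).factorization 2 := by
  have : Fact (Nat.Prime 2) := ⟨Nat.prime_two⟩
  obtain ⟨k, hk⟩ := (IsPGroup.iff_card (p := 2)).1 hK
  exact ⟨k, hk, (Nat.Prime.pow_dvd_iff_le_factorization Nat.prime_two Nat.card_pos.ne').1
    (hk ▸ Subgroup.card_subgroup_dvd_card K)⟩

/-- The determinant one part of a Sylow subgroup is a Sylow subgroup, and the determinants fill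
the 2-part. -/
theorem split_det {d : ℕ} (X S : Subgroup (GL (Fin d) F)) (hle : S ≤ X)
    (hcard : Nat.card S = 2 ^ (Nat.card X).factorization 2) :
    Nat.card (S.comap SpecialLinearGroup.toGL) =
        2 ^ (Nat.card (X.comap SpecialLinearGroup.toGL)).factorization 2 ∧
      Nat.card (S.map GeneralLinearGroup.det) =
        2 ^ (Nat.card (X.map GeneralLinearGroup.det)).factorization 2 := by
  have : Fact (Nat.Prime 2) := ⟨Nat.prime_two⟩
  have hinj : Function.Injective (SpecialLinearGroup.toGL : SpecialLinearGroup (Fin d) F →* GL (Fin d) F) :=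
    SpecialLinearGroup.toGL_injective
  have split : ∀ T : Subgroup (GL (Fin d) F),
      Nat.card T = Nat.card (T.comap SpecialLinearGroup.toGL) * Nat.card (T.map GeneralLinearGroup.det) := by
    intro T
    set f := (GeneralLinearGroup.det : GL (Fin d) F →* Fˣ).comp T.subtype with hf
    have h := Subgroup.card_mul_index f.ker
    rw [Subgroup.index_ker] at h
    rw [← h]
    congr 1
    · let φ : T.comap SpecialLinearGroup.toGL → f.ker := fun x =>
        ⟨⟨SpecialLinearGroup.toGL x.1, x.2⟩, Units.ext (by simp [hf])⟩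
      refine (Nat.card_congr (Equiv.ofBijective φ ⟨fun a b e => ?_, fun y => ?_⟩)).symm
      · exact Subtype.ext (hinj (congrArg (fun w : f.ker => ((w : T) : GL (Fin d) F)) e))
      · have hy : GeneralLinearGroup.det ((y : T) : GL (Fin d) F) = 1 := y.2
        refine ⟨⟨⟨((y : T) : GL (Fin d) F).val, congrArg Units.val hy⟩, ?_⟩, ?_⟩
        · show SpecialLinearGroup.toGL _ ∈ T
          convert (y : T).2 using 1
          exact Units.ext rfl
        · exact Subtype.ext (Subtype.ext (Units.ext rfl))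
    · rw [hf, MonoidHom.range_comp, Subgroup.range_subtype]
  have hS : IsPGroup 2 S := IsPGroup.of_card hcard
  have hA : IsPGroup 2 (S.comap SpecialLinearGroup.toGL) := hS.comap_of_injective _ hinj
  have hB : IsPGroup 2 (S.map GeneralLinearGroup.det) := hS.map _
  have hA' : IsPGroup 2 ((S.comap SpecialLinearGroup.toGL).subgroupOf (X.comap SpecialLinearGroup.toGL)) :=
    hA.comap_subtype
  have hB' : IsPGroup 2 ((S.map GeneralLinearGroup.det).subgroupOf (X.map GeneralLinearGroup.det)) :=
    hB.comap_subtype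
  obtain ⟨a, ha, hale⟩ := factorization_two_of_pow hA'
  obtain ⟨b, hb, hble⟩ := factorization_two_of_pow hB'
  rw [Nat.card_congr (Subgroup.subgroupOfEquivOfLe (Subgroup.comap_mono hle)).toEquiv] at ha
  rw [Nat.card_congr (Subgroup.subgroupOfEquivOfLe (Subgroup.map_mono hle)).toEquiv] at hb
  have h1 := split S
  rw [hcard, ha, hb, ← pow_add] at h1
  have h2 := Nat.pow_right_injective le_rfl h1
  have h3 := congrArg (fun m => m.factorization 2) (split X)
  simp only [Nat.factorization_mul Nat.card_pos.ne' Nat.card_pos.ne', Finsupp.add_apply] at h3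
  have ea : a = (Nat.card (X.comap SpecialLinearGroup.toGL)).factorization 2 := by omega
  have eb : b = (Nat.card (X.map GeneralLinearGroup.det)).factorization 2 := by omega
  exact ⟨by rw [ha, ea], by rw [hb, eb]⟩

/-- In a cyclic group of even order a generator of the 2-part is no square. -/
theorem exists_nonsquare (D T : Subgroup Fˣ) (hTD : T ≤ D) (hneg : (-1 : Fˣ) ∈ D)
    (h2 : (2 : F) ≠ 0) (hT : Nat.card T = 2 ^ (Nat.card D).factorization 2) :
    ∃ t ∈ T, ∀ μ ∈ D, μ * μ ≠ t := by
  obtain ⟨g, hg⟩ := IsCyclic.exists_ofOrder_eq_natCard (α := T)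
  refine ⟨(g : Fˣ), g.2, fun μ hμ e => ?_⟩
  set v := (Nat.card D).factorization 2
  have hv : 1 ≤ v := by
    have h : orderOf (-1 : Fˣ) = 2 := orderOf_eq_prime (hp := ⟨Nat.prime_two⟩) (by simp) (by
      intro e
      have := congrArg Units.val e
      simp at this
      exact h2 (by linear_combination -this))
    exact (Nat.Prime.pow_dvd_iff_le_factorization Nat.prime_two Nat.card_pos.ne').1
      (by rw [pow_one, ← h]; exact Subgroup.orderOf_dvd_natCard D hneg)
  have hgo : orderOf (g : Fˣ) = 2 ^ v := by rw [Subgroup.orderOf_coe, hg, hT]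
  have hdvd : orderOf μ ∣ Nat.card D := Subgroup.orderOf_dvd_natCard D hμ
  have hμμ : orderOf (μ ^ 2) = 2 ^ v := by rw [sq, e, hgo]
  rw [orderOf_pow' μ two_ne_zero] at hμμ
  rcases Nat.even_or_odd (orderOf μ) with h | h
  · rw [Nat.gcd_eq_right (even_iff_two_dvd.1 h)] at hμμ
    have h' : orderOf μ = 2 ^ (v + 1) := by
      rw [pow_succ, ← hμμ, Nat.div_mul_cancel (even_iff_two_dvd.1 h)]
    have := (Nat.Prime.pow_dvd_iff_le_factorization Nat.prime_two Nat.card_pos.ne').1 (h' ▸ hdvd)
    omega
  · rw [Nat.Coprime.gcd_eq_one (Nat.coprime_two_right.2 h), Nat.div_one] at hμμ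
    rw [hμμ] at h
    exact Nat.not_even_iff_odd.2 h ((Nat.even_pow).2 ⟨even_two, by omega⟩)

local notation "M2" => Matrix (Fin 2) (Fin 2) F

/-- Conjugation of `SL₂` by an element of `GL₂`. -/
def conjHom (b : GL (Fin 2) F) : SL(2, F) →* SL(2, F) where
  toFun g := ⟨(b : M2) * g * ((b⁻¹ : GL (Fin 2) F) : M2), by
    rw [det_mul, det_mul, g.prop, mul_one, ← det_mul, Units.mul_inv, det_one]⟩
  map_one' := Subtype.ext (by simp)
  map_mul' g h := Subtype.ext (by
    show _ = ((b : M2) * g * _) * ((b : M2) * h * _)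
    simp [mul_assoc])

theorem toGL_conjHom (b : GL (Fin 2) F) (g : SL(2, F)) :
    SpecialLinearGroup.toGL (conjHom b g) = b * SpecialLinearGroup.toGL g * b⁻¹ :=
  Units.ext rfl

theorem conjHom_negOne (b : GL (Fin 2) F) : conjHom b (negOne F) = negOne F :=
  Subtype.ext (by
    show (b : M2) * (negOne F : SL(2, F)).1 * ((b⁻¹ : GL (Fin 2) F) : M2) = _
    simp [coe_negOne])

theorem conjHom_injective (b : GL (Fin 2) F) : Function.Injective (conjHom b) := by
  intro x y e
  refine SpecialLinearGroup.toGL_injective ?_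
  have h := congrArg SpecialLinearGroup.toGL e
  rw [toGL_conjHom, toGL_conjHom] at h
  exact mul_left_cancel (mul_right_cancel h)

open SLTwo in
theorem Pm.map {x y : SL(2, F)} (h : Pm x y) (b : GL (Fin 2) F) : Pm (conjHom b x) (conjHom b y) := by
  rcases h with rfl | rfl
  · exact Or.inl rfl
  · exact Or.inr (by rw [map_mul, conjHom_negOne])

open SLTwo in
/-- An element of `GL₂` fixing two non-commuting roots up to sign has square determinant. -/
theorem exists_scal_of_fix (h2 : (2 : F) ≠ 0) {R0 : Subgroup SL(2, F)} {u w : SL(2, F)}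
    (hu : IsRoot u) (hw : IsRoot w) (huR : u ∈ R0) (hwR : w ∈ R0)
    (huw : u * w = w * u * negOne F) (b : GL (Fin 2) F) (hbu : Pm (conjHom b u) u)
    (hbw : Pm (conjHom b w) w) :
    ∃ r ∈ R0, ∃ μ : Fˣ, b * SpecialLinearGroup.toGL r = scal 2 F μ := by
  set U := (u : M2)
  set W := (w : M2)
  set N := (b : M2)
  have hz : ∀ X : M2, X * (negOne F : SL(2, F)).1 = -X := fun X => by simp [coe_negOne]
  have conv : ∀ x : SL(2, F), Pm (conjHom b x) x →
      N * (x : M2) = (x : M2) * N ∨ N * (x : M2) = -((x : M2) * N) := by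
    intro x hx
    have e : ∀ Y : M2, N * (x : M2) * ((b⁻¹ : GL (Fin 2) F) : M2) = Y → N * (x : M2) = Y * N := by
      intro Y hY
      rw [← hY, mul_assoc _ _ N, Units.inv_mul, mul_one]
    rcases hx with h | h <;> have h' := congrArg Subtype.val h
    · exact Or.inl (e _ h')
    · refine Or.inr ?_
      rw [e _ (h'.trans (hz _)), neg_mul]
  have hUW : U * W = -(W * U) := by
    have h := congrArg (fun g : SL(2, F) => (g : M2)) huw
    simpa [hz, coe_negOne] using h
  have hWU : W * U = -(U * W) := by rw [hUW, neg_neg]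
  have hUU : U * U = -1 := by
    have h := congrArg (fun g : SL(2, F) => (g : M2)) (show u * u = negOne F from hu)
    simpa [coe_negOne] using h
  have hWW : W * W = -1 := by
    have h := congrArg (fun g : SL(2, F) => (g : M2)) (show w * w = negOne F from hw)
    simpa [coe_negOne] using h
  have fin : ∀ r ∈ R0, N * (r : M2) * U = U * (N * (r : M2)) →
      N * (r : M2) * W = W * (N * (r : M2)) →
      ∃ r ∈ R0, ∃ μ : Fˣ, b * SpecialLinearGroup.toGL r = scal 2 F μ := by
    intro r hr h1 h3
    obtain ⟨s, t, e⟩ := exists_comb_mat h2 hu h1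
    have ht : t = 0 := by
      by_contra ht
      rw [e] at h3
      simp only [add_mul, mul_add, Matrix.smul_mul, Matrix.mul_smul, one_mul, mul_one,
        add_right_inj] at h3
      have h4 : U * W = W * U := smul_right_injective M2 ht h3
      rw [hUW] at h4
      have h5 : (2 : F) • (W * U) = 0 := by rw [two_smul]; nth_rw 1 [← h4]; exact neg_add_cancel _
      have h6 : W * U = 0 := (smul_eq_zero.1 h5).resolve_left h2
      have h7 := congrArg Matrix.det h6
      rw [det_mul, w.prop, u.prop, mul_one, det_zero] at h7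
      exact one_ne_zero h7
    rw [ht, zero_smul, add_zero] at e
    have hdet : (N * (r : M2)).det ≠ 0 := by
      rw [det_mul, r.prop, mul_one]
      exact ((Matrix.isUnit_iff_isUnit_det _).1 b.isUnit).ne_zero
    have hs : s ≠ 0 := fun h0 => hdet (by rw [e, h0, zero_smul, det_zero])
    refine ⟨r, hr, Units.mk0 s hs, Units.ext ?_⟩
    rw [coe_scal]
    exact e
  rcases conv u hbu with h1 | h1 <;> rcases conv w hbw with h3 | h3
  · refine fin 1 R0.one_mem ?_ ?_ <;> simpa
  · refine fin u huR ?_ ?_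
    · show N * U * U = U * (N * U)
      rw [h1, mul_assoc, h1]
    · show N * U * W = W * (N * U)
      rw [mul_assoc, hUW, mul_neg, ← mul_assoc, h3, neg_mul, neg_neg, mul_assoc]
  · refine fin w hwR ?_ ?_
    · show N * W * U = U * (N * W)
      rw [mul_assoc, hWU, mul_neg, ← mul_assoc, h1, neg_mul, neg_neg, mul_assoc]
    · show N * W * W = W * (N * W)
      rw [h3, mul_assoc, h3]
  · refine fin (u * w) (mul_mem huR hwR) ?_ ?_
    · show N * (U * W) * U = U * (N * (U * W))
      calc N * (U * W) * U = N * U * (W * U) := by simp only [mul_assoc]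
        _ = -(U * N) * -(U * W) := by rw [h1, hWU]
        _ = _ := by simp only [neg_mul, mul_neg, neg_neg, mul_assoc]
    · show N * (U * W) * W = W * (N * (U * W))
      calc N * (U * W) * W = N * U * (W * W) := by simp only [mul_assoc]
        _ = -(N * U) := by rw [hWW, mul_neg, mul_one]
        _ = W * (W * (N * U)) := by rw [← mul_assoc W W, hWW, neg_mul, one_mul]
        _ = W * (N * (U * W)) := by
          congr 1
          rw [← mul_assoc W N, show W * N = -(N * W) by rw [h3, neg_neg], neg_mul, mul_assoc, hWU,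
            mul_neg, neg_neg]

variable (X : Subgroup (GL (Fin 2) F))

open SLTwo in
/-- The base of the induction. -/
theorem good_of_sylow (h2 : (2 : F) ≠ 0) {K : Type v} [Field K] [Fintype K]
    (hK : Odd (Fintype.card K)) (e : X.comap SpecialLinearGroup.toGL ≃* SL(2, K))
    (hscal : ∀ μ : Fˣ, scal 2 F μ ∈ X ↔ μ ∈ X.map GeneralLinearGroup.det)
    (hneg : (-1 : Fˣ) ∈ X.map GeneralLinearGroup.det) (P : Sylow 2 X) :
    Good X ((P : Subgroup X).map X.subtype) := by
  classical
  have : Fact (Nat.Prime 2) := ⟨Nat.prime_two⟩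
  set D := X.map GeneralLinearGroup.det with hD
  set S := (P : Subgroup X).map X.subtype with hSdef
  have hle : S ≤ X := Subgroup.map_subtype_le _
  have hcard : Nat.card S = 2 ^ (Nat.card X).factorization 2 := by
    rw [hSdef, Subgroup.card_subtype, P.card_eq_multiplicity]
  obtain ⟨hcA, hcB⟩ := split_det X S hle hcard
  set G1 := X.comap SpecialLinearGroup.toGL
  set R0 := S.comap SpecialLinearGroup.toGL with hR0
  have hR0le : R0 ≤ G1 := Subgroup.comap_mono hle
  set R1 := (R0.subgroupOf G1).map e.toMonoidHom with hR1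
  have hR1card : Nat.card R1 = 2 ^ (Nat.card SL(2, K)).factorization 2 := by
    rw [hR1, Subgroup.card_map_of_injective e.injective,
      Nat.card_congr (Subgroup.subgroupOfEquivOfLe hR0le).toEquiv, hcA, Nat.card_congr e.toEquiv]
  let P1 : Sylow 2 SL(2, K) := Sylow.ofCard R1 hR1card
  have hP1 : (P1 : Subgroup SL(2, K)) = R1 := rfl
  have hmem1 : ∀ x : G1, e x ∈ R1 ↔ (x : SL(2, F)) ∈ R0 := fun x =>
    (Subgroup.mem_map_iff_mem e.injective).trans Subgroup.mem_subgroupOf
  obtain ⟨hcent, h17, h35⟩ := Cfsg.Agent.S2431.result hK P1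
  have hK2 : Fintype.card K % 2 = 1 := Nat.odd_iff.1 hK
  have hK1 := Fintype.one_lt_card (α := K)
  have hv3 : 8 ≤ Nat.card R1 := by
    rw [hR1card, SylowSL2.factorization_natCard_SL_two Nat.prime_two (by omega)]
    refine le_trans (by norm_num : 8 ≤ 2 ^ 3) (Nat.pow_le_pow_right two_pos ?_)
    have a1 : ∀ m, m % 2 = 0 → m ≠ 0 → 1 ≤ m.factorization 2 := fun m hm hm0 =>
      (Nat.Prime.pow_dvd_iff_le_factorization Nat.prime_two hm0).1 (by rw [pow_one]; omega)
    have a2 : ∀ m, m % 4 = 0 → m ≠ 0 → 2 ≤ m.factorization 2 := fun m hm hm0 =>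
      (Nat.Prime.pow_dvd_iff_le_factorization Nat.prime_two hm0).1 (by norm_num; omega)
    rcases (show Fintype.card K % 4 = 1 ∨ Fintype.card K % 4 = 3 by omega) with h | h
    · have := a2 (Fintype.card K - 1) (by omega) (by omega)
      have := a1 (Fintype.card K + 1) (by omega) (by omega)
      omega
    · have := a1 (Fintype.card K - 1) (by omega) (by omega)
      have := a2 (Fintype.card K + 1) (by omega) (by omega)
      omega
  have pair : ∃ r ∈ R0, ∃ s ∈ R0, r * s ≠ s * r := by
    by_contra h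
    push Not at h
    have hle1 : R1 ≤ Subgroup.center SL(2, K) := by
      intro x hx
      rw [← hcent, Subgroup.mem_centralizer_iff]
      intro y hy
      obtain ⟨x', hx', rfl⟩ := hx
      obtain ⟨y', hy', rfl⟩ := hy
      rw [← map_mul, ← map_mul]
      exact congrArg _ (Subtype.ext (h _ hy' _ hx'))
    have hcz : Nat.card (Subgroup.center SL(2, K)) ≤ 2 := by
      rw [Linear.natCard_center_SL (n := Fin 2), Fintype.card_fin]
      exact Nat.le_of_dvd two_pos (Nat.gcd_dvd_left _ _)
    have := Subgroup.card_le_of_le hle1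
    omega
  -- the scalar `-1`
  have hnegS : scal 2 F (-1) ∈ S := by
    have hX : scal 2 F (-1) ∈ X := (hscal _).2 hneg
    have hmem : (⟨_, hX⟩ : X) ∈ P := by
      refine mem_of_two_element P (a := 1) (Subtype.ext ?_) (Subgroup.mem_normalizer_iff.2 fun r => ?_)
      · show scal 2 F (-1) ^ 2 ^ 1 = 1
        rw [pow_one, ← map_pow, neg_one_sq, map_one]
      · have hc : (⟨_, hX⟩ : X) * r * (⟨_, hX⟩ : X)⁻¹ = r := by
          refine mul_inv_eq_iff_eq_mul.2 (Subtype.ext ?_)
          exact (isScalar_scal (-1 : Fˣ)).comm (r : GL (Fin 2) F)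
        rw [hc]
    exact ⟨_, hmem, rfl⟩
  have hdet1 : ∀ r : SL(2, F), GeneralLinearGroup.det (SpecialLinearGroup.toGL r) = 1 := fun r =>
    Units.ext (by simp)
  refine ⟨hle, hcard, hnegS, ?_, ?_, ?_⟩
  · obtain ⟨r, hr, s, hs, hrs⟩ := pair
    refine ⟨_, hr, hdet1 r, fun h => hrs (SpecialLinearGroup.toGL_injective ?_)⟩
    rw [map_mul, map_mul]
    exact h.comm _
  · intro g hgX hg
    obtain ⟨r, hr, s, hs, hrs⟩ := pair
    by_cases hq : ∃ a ∈ R0, ∃ b ∈ R0, a * b ≠ b * a ∧ IsRoot a
    · obtain ⟨a, ha, b, hb, hab, har⟩ := hq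
      have comm : ∀ x ∈ R0, (g : M2) * (x : M2) = (x : M2) * (g : M2) := fun x hx =>
        congrArg Units.val (hg _ hx (hdet1 x))
      obtain ⟨s', t', e'⟩ := exists_comb_mat h2 har (comm a ha)
      refine ⟨s', ?_⟩
      by_cases ht : t' = 0
      · rw [e', ht, zero_smul, add_zero]
      exfalso
      have h3 := comm b hb
      rw [e'] at h3
      simp only [add_mul, mul_add, Matrix.smul_mul, Matrix.mul_smul, one_mul, mul_one,
        add_right_inj] at h3
      exact hab (Subtype.ext (by simpa using smul_right_injective M2 ht h3))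
    · -- some element of `R0` squares to `-1` and is not central
      exfalso
      push Not at hq
      have hnr : ∀ x ∈ R0, ∀ k, orderOf x = 2 ^ (k + 2) → IsRoot (x ^ (2 ^ k)) := by
        intro x hx k hk
        show x ^ 2 ^ k * x ^ 2 ^ k = negOne F
        rw [← pow_add, ← two_mul, ← pow_succ']
        have h1 : x ^ 2 ^ (k + 1) * x ^ 2 ^ (k + 1) = 1 := by
          rw [← pow_add, ← two_mul, ← pow_succ', ← hk, pow_orderOf_eq_one]
        refine (eq_pm_of_sq h2 h1).resolve_left fun h => ?_
        have := Nat.le_of_dvd (Nat.two_pow_pos _) (orderOf_dvd_of_pow_eq_one h)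
        rw [hk] at this
        exact absurd this (not_le.2 (Nat.pow_lt_pow_right one_lt_two (by omega)))
      have hord : ∀ x ∈ R0, x ≠ 1 → x ≠ negOne F → ∃ k, orderOf x = 2 ^ (k + 2) := by
        intro x hx hx1 hxz
        obtain ⟨k, hk⟩ := IsPGroup.iff_orderOf.1
          ((IsPGroup.of_card hcA : IsPGroup 2 R0)) ⟨x, hx⟩
        rw [Subgroup.orderOf_mk] at hk
        rcases k with _ | _ | k
        · exact absurd (orderOf_eq_one_iff.1 (by simpa using hk)) hx1
        · have h1 : x * x = 1 := by rw [← sq]; exact orderOf_dvd_iff_pow_eq_one.1 (by rw [hk]; norm_num)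
          exact ((eq_pm_of_sq h2 h1).elim hx1 hxz).elim
        · exact ⟨k, hk⟩
      obtain ⟨k, hk⟩ := hord r hr (fun h => hrs (by rw [h]; simp))
        (fun h => hrs (by rw [h]; exact negOne_comm s))
      obtain ⟨l, hl⟩ := hord s hs (fun h => hrs (by rw [h]; simp))
        (fun h => hrs (by rw [h]; exact (negOne_comm r).symm))
      have hA := hnr r hr k hk
      have hB := hnr s hs l hl
      have e1 := hq (r ^ 2 ^ k) (pow_mem hr _) s hs
      refine hrs (comm_of_comm h2 hA ?_ ?_)
      · exact ((Commute.refl r).pow_right _).eq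
      · by_contra hne
        exact e1 (Ne.symm hne) hA
  · intro g hgX hgodd hgn
    -- reduce to determinant one
    set δ := GeneralLinearGroup.det g with hδ
    have hδD : δ ∈ D := ⟨g, hgX, rfl⟩
    obtain ⟨o, ho⟩ : ∃ o, orderOf g = 2 * o + 1 := hgodd
    have hδo : δ ^ (2 * o + 1) = 1 := by rw [hδ, ← map_pow, ← ho, pow_orderOf_eq_one, map_one]
    set μ := δ ^ (o + 1)
    have hμμ : μ * μ = δ := by
      rw [← pow_add, show o + 1 + (o + 1) = 2 * o + 1 + 1 by omega, pow_succ, hδo, one_mul]
    have hμo : μ ^ (2 * o + 1) = 1 := by rw [← pow_mul, mul_comm, pow_mul, hδo, one_pow]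
    have hμX : scal 2 F μ ∈ X := (hscal μ).2 (pow_mem hδD _)
    set h := (scal 2 F μ)⁻¹ * g with hh
    have hhd : GeneralLinearGroup.det h = 1 := by
      rw [hh, map_mul, map_inv, det_scal, sq, hμμ, ← hδ, inv_mul_cancel]
    set t : SL(2, F) := ⟨(h : M2), congrArg Units.val hhd⟩
    have htG : SpecialLinearGroup.toGL t = h := Units.ext rfl
    have htG1 : t ∈ G1 := by
      show SpecialLinearGroup.toGL t ∈ X
      rw [htG]; exact X.mul_mem (X.inv_mem hμX) hgX
    have hto : t ^ (2 * o + 1) = 1 := by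
      refine SpecialLinearGroup.toGL_injective ?_
      rw [map_pow, map_one, htG, hh, ← map_inv,
        (show Commute (scal 2 F μ⁻¹) g from (isScalar_scal _).comm g).mul_pow, ← map_pow, ← ho,
        pow_orderOf_eq_one, mul_one, inv_pow, ho, hμo, inv_one, map_one]
    have hhn : ∀ c : GL (Fin 2) F, h * c * h⁻¹ = g * c * g⁻¹ := by
      intro c
      rw [hh, _root_.mul_inv_rev, inv_inv,
        show (scal 2 F μ)⁻¹ * g * c * (g⁻¹ * scal 2 F μ) =
          (scal 2 F μ)⁻¹ * (g * c * g⁻¹ * scal 2 F μ) by group,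
        ← (isScalar_scal μ).comm, inv_mul_cancel_left]
    have htn : ∀ x ∈ R0, t * x * t⁻¹ ∈ R0 := by
      intro x hx
      show SpecialLinearGroup.toGL (t * x * t⁻¹) ∈ S
      rw [map_mul, map_mul, map_inv, htG, hhn]
      exact hgn _ hx
    suffices ht1 : t = 1 by
      have : h = 1 := by rw [← htG, ht1, map_one]
      rw [hh, inv_mul_eq_one] at this
      exact this ▸ isScalar_scal μ
    have ht2 : ∀ a, t ^ (2 ^ a) = 1 → t = 1 := by
      intro a ha
      have h1 := orderOf_dvd_of_pow_eq_one ha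
      obtain ⟨j, -, hj⟩ := (Nat.dvd_prime_pow Nat.prime_two).1 h1
      have h3 := orderOf_dvd_of_pow_eq_one hto
      rw [hj] at h3
      rcases Nat.eq_zero_or_pos j with rfl | hj0
      · exact orderOf_eq_one_iff.1 (by simpa using hj)
      · exact absurd ((dvd_pow_self 2 hj0.ne').trans h3) (by omega)
    set t1 : G1 := ⟨t, htG1⟩
    have htN : e t1 ∈ Subgroup.normalizer ((P1 : Subgroup SL(2, K)) : Set SL(2, K)) := by
      have hfin : ∀ x : G1, (x : SL(2, F)) ∈ R0 → ((t1 * x * t1⁻¹ : G1) : SL(2, F)) ∈ R0 :=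
        fun x hx => htn _ hx
      have heq : R1.map (MulAut.conj (e t1)).toMonoidHom = R1 := by
        refine Subgroup.eq_of_le_of_card_ge ?_
          (le_of_eq (Subgroup.card_map_of_injective (MulAut.conj (e t1)).injective).symm)
        rintro _ ⟨y, hy, rfl⟩
        obtain ⟨x, rfl⟩ := e.surjective y
        show e t1 * e x * (e t1)⁻¹ ∈ R1
        rw [← map_inv, ← map_mul, ← map_mul, hmem1]
        exact hfin x ((hmem1 x).1 hy)
      refine Subgroup.mem_normalizer_iff.2 fun y => ?_
      rw [hP1]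
      conv_rhs => rw [← heq]
      exact (Subgroup.mem_map_iff_mem (MulAut.conj (e t1)).injective).symm
    rcases (show (Fintype.card K % 8 = 1 ∨ Fintype.card K % 8 = 7) ∨
      (Fintype.card K % 8 = 3 ∨ Fintype.card K % 8 = 5) by omega) with h8 | h8
    · rw [h17 h8, hP1] at htN
      obtain ⟨k, hk⟩ := IsPGroup.iff_orderOf.1 (IsPGroup.of_card hcA : IsPGroup 2 R0)
        ⟨t, (hmem1 t1).1 htN⟩
      refine ht2 k ?_
      rw [Subgroup.orderOf_mk] at hk
      rw [← hk, pow_orderOf_eq_one]
    have hR8 : Nat.card R0 = 8 := by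
      rw [hcA, Nat.card_congr e.toEquiv,
        SylowSL2.factorization_natCard_SL_two Nat.prime_two (by omega)]
      rcases h8 with h | h
      · rw [SLTwo.factorization_of_mod_four (m := Fintype.card K - 1) (by omega),
          SLTwo.factorization_of_mod_eight (m := Fintype.card K + 1) (by omega)]; norm_num
      · rw [SLTwo.factorization_of_mod_eight (m := Fintype.card K - 1) (by omega),
          SLTwo.factorization_of_mod_four (m := Fintype.card K + 1) (by omega)]; norm_num
    have hQ : Quat R0 := quat_of_card h2 R0 hR8 pair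
    refine Classical.byContradiction fun htne => ?_
    -- an element with non-square determinant
    obtain ⟨τ, hτ, hτns⟩ := exists_nonsquare D (S.map GeneralLinearGroup.det)
      (Subgroup.map_mono hle) hneg h2 hcB
    obtain ⟨b, hb, hbτ⟩ := hτ
    have hns : ∀ c ∈ S, GeneralLinearGroup.det c = τ → ∀ r ∈ R0, ∀ ν : Fˣ,
        c * SpecialLinearGroup.toGL r ≠ scal 2 F ν := by
      intro c hc hcd r hr ν e'
      have hν : scal 2 F ν ∈ X := e' ▸ X.mul_mem (hle hc) (hle hr)
      refine hτns ν ((hscal ν).1 hν) ?_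
      have := congrArg GeneralLinearGroup.det e'
      rw [map_mul, hdet1, mul_one, hcd, det_scal, sq] at this
      exact this.symm
    have hmove : ∀ x ∈ R0, ∀ y ∈ R0, x * y ≠ y * x → ¬ Pm (t * x * t⁻¹) x := fun x hx y hy hxy h =>
      htne (ht2 3 (pow_eight_of_fix h2 R0 hQ htn hx hy hxy h))
    obtain ⟨r, hr, s, hs, hrs⟩ := pair
    have hσ : ∀ c ∈ S, ∀ x ∈ R0, conjHom c x ∈ R0 := fun c hc x hx => by
      show SpecialLinearGroup.toGL (conjHom c x) ∈ S
      rw [toGL_conjHom]
      exact S.mul_mem (S.mul_mem hc hx) (S.inv_mem hc)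
    have hfix : ∀ x ∈ R0, ∀ y ∈ R0, Pm (x * y * x⁻¹) y := by
      intro x hx y hy
      by_cases hc : x * y = y * x
      · exact Or.inl (by rw [hc, mul_inv_cancel_right])
      · refine Or.inr ?_
        rw [hQ.anti x hx y hy hc, mul_assoc (y * x), negOne_comm x⁻¹, ← mul_assoc,
          mul_inv_cancel_right]
    -- commutation of the two actions up to sign
    have hcommσ : ∀ c ∈ S, ∀ x ∈ R0, Pm (t * conjHom c x * t⁻¹) (conjHom c (t * x * t⁻¹)) := by
      intro c hc x hx
      have hzS : t * conjHom c t⁻¹ ∈ R0 := by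
        show SpecialLinearGroup.toGL (t * conjHom c t⁻¹) ∈ S
        rw [map_mul, toGL_conjHom, map_inv, htG, show h * (c * h⁻¹ * c⁻¹) = h * c * h⁻¹ * c⁻¹ by group,
          hhn]
        exact S.mul_mem (hgn c hc) (S.inv_mem hc)
      have hk := hfix _ hzS _ (hσ c hc _ (htn x hx))
      have e' : t * conjHom c t⁻¹ * conjHom c (t * x * t⁻¹) * (t * conjHom c t⁻¹)⁻¹ =
          t * conjHom c x * t⁻¹ := by
        rw [map_mul, map_mul, map_inv]; group
      rwa [e'] at hk
    have hnc : ∀ x ∈ R0, ∀ y ∈ R0, x * y ≠ y * x →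
        x * (t * x * t⁻¹) ≠ (t * x * t⁻¹) * x := by
      intro x hx y hy hxy hc
      have hxr := hQ.root_of_ne hx hxy
      have htxr : IsRoot (t * x * t⁻¹) := by
        show t * x * t⁻¹ * (t * x * t⁻¹) = negOne F
        rw [show t * x * t⁻¹ * (t * x * t⁻¹) = t * (x * x) * t⁻¹ by group, hxr, ← negOne_comm t,
          mul_inv_cancel_right]
      exact hmove x hx y hy hxy (eq_pm_of_comm h2 hxr htxr hc.symm)
    -- no root is fixed by `b`
    have hnofix : ∀ x ∈ R0, ∀ y ∈ R0, x * y ≠ y * x → ¬ Pm (conjHom b x) x := by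
      intro x hx y hy hxy hfx
      have hne := hnc x hx y hy hxy
      obtain ⟨r', hr', ν, e'⟩ := exists_scal_of_fix h2 (hQ.root_of_ne hx hne)
        (hQ.root_of_ne (htn x hx) (Ne.symm hne)) hx (htn x hx) (hQ.anti _ hx _ (htn x hx) hne) b hfx
        ((hcommσ b hb x hx).symm.trans (hfx.conj t))
      exact hns b hb hbτ r' hr' ν e'
    set u' := conjHom b r
    have hu' : u' ∈ R0 := hσ b hb r hr
    have hru' : r * u' ≠ u' * r := fun hc => hnofix r hr s hs hrs
      (eq_pm_of_comm h2 (hQ.root_of_ne hr hrs)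
        (hQ.root_of_ne hu' (s := conjHom b s) fun e' => hrs (conjHom_injective b (by
          rwa [map_mul, map_mul]))) hc.symm)
    set w := conjHom b u'
    have hw : w ∈ R0 := hσ b hb u' hu'
    have hu'w : u' * w ≠ w * u' := fun hc => hnofix u' hu' r hr (Ne.symm hru')
      (eq_pm_of_comm h2 (hQ.root_of_ne hu' (Ne.symm hru'))
        (hQ.root_of_ne hw (s := conjHom b r) fun e' => hru' (conjHom_injective b (by
          rw [map_mul, map_mul]; exact e'.symm))) hc.symm)
    by_cases hrw : r * w = w * r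
    · -- then `b` fixes the product
      have hwr : Pm w r := eq_pm_of_comm h2 (hQ.root_of_ne hr hrs)
        (hQ.root_of_ne hw (Ne.symm hu'w)) hrw.symm
      refine hnofix (r * u') (mul_mem hr hu') r hr (fun e' => hru' ?_) ?_
      · rw [mul_assoc] at e'; exact (mul_left_cancel e').symm
      · rw [map_mul]
        refine ((Pm.rfl' u').mul hwr).trans ?_
        exact Or.inr (hQ.anti _ hu' _ hr (Ne.symm hru'))
    · have hwp : Pm w (r * u') := eq_pm_mul_of_anti h2 R0 hQ hr hu' hw hru' hrw (Ne.symm hu'w)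
      -- then `b³` fixes two roots
      have h3r : Pm (conjHom b w) r := by
        refine (Pm.map hwp b).trans ?_
        rw [map_mul]
        refine ((Pm.rfl' u').mul hwp).trans ?_
        rw [show u' * (r * u') = u' * r * u' by group, hQ.anti _ hu' _ hr (Ne.symm hru'),
          mul_assoc (r * u'), negOne_comm u', ← mul_assoc (r * u'), mul_assoc r u' u',
          hQ.root_of_ne hu' (Ne.symm hru'), mul_assoc r, negOne_sq, mul_one]
        exact Pm.rfl' r
      have hcomp : ∀ (c c' : GL (Fin 2) F) (x : SL(2, F)),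
          conjHom (c * c') x = conjHom c (conjHom c' x) := fun c c' x => by
        refine SpecialLinearGroup.toGL_injective ?_
        rw [toGL_conjHom, toGL_conjHom, toGL_conjHom]; group
      obtain ⟨r', hr', ν, e'⟩ := exists_scal_of_fix h2 (hQ.root_of_ne hr hrs)
        (hQ.root_of_ne hu' (Ne.symm hru')) hr hu' (hQ.anti _ hr _ hu' hru') (b * b * b)
        (by rw [hcomp, hcomp]; exact h3r) (by rw [hcomp, hcomp]; exact Pm.map h3r b)
      have hν : scal 2 F ν ∈ X := e' ▸ X.mul_mem (hle (S.mul_mem (S.mul_mem hb hb) hb)) (hle hr')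
      have hd := congrArg GeneralLinearGroup.det e'
      rw [map_mul, hdet1, mul_one, map_mul, map_mul, hbτ, det_scal, sq] at hd
      refine hτns (ν * τ⁻¹) (D.mul_mem ((hscal ν).1 hν) (D.inv_mem ⟨b, hle hb, hbτ⟩)) ?_
      rw [mul_mul_mul_comm, ← hd]; group

end Cfsg.Agent.Classical.OddIndex.OddBase
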