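import Mathlib
import Cfsg.Agent.Lib.Classical.OddIndex.OddBase

/-!
# Doubling the dimension
-/

set_option autoImplicit false
set_option linter.unusedSectionVars false

namespace Cfsg.Agent.Classical.OddIndex.OddStep

open Matrix OddBase
open scoped MatrixGroups

universe u

variable {F : Type u} [Field F] [Fintype F] {d : ℕ}

/-- Reindexing two blocks. -/
noncomputable def toBig : GL (Fin d ⊕ Fin d) F ≃* GL (Fin (d + d)) F :=
  Units.mapEquiv (Matrix.reindexAlgEquiv F F (finSumFinEquiv (m := d) (n := d))).toMulEquiv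

theorem coe_toBig (g : GL (Fin d ⊕ Fin d) F) :
    ((toBig g : GL (Fin (d + d)) F) : Matrix (Fin (d + d)) (Fin (d + d)) F) =
      Matrix.reindex finSumFinEquiv finSumFinEquiv (g : Matrix (Fin d ⊕ Fin d) (Fin d ⊕ Fin d) F) := rfl

theorem det_toBig (g : GL (Fin d ⊕ Fin d) F) :
    GeneralLinearGroup.det (toBig g) = GeneralLinearGroup.det g := by
  refine Units.ext ?_
  rw [GeneralLinearGroup.val_det_apply, GeneralLinearGroup.val_det_apply, coe_toBig,
    Matrix.det_reindex_self]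

/-- Block diagonal elements. -/
def bd : GL (Fin d) F × GL (Fin d) F →* GL (Fin d ⊕ Fin d) F where
  toFun p :=
    { val := Matrix.fromBlocks (p.1 : Matrix (Fin d) (Fin d) F) 0 0 (p.2 : Matrix (Fin d) (Fin d) F)
      inv := Matrix.fromBlocks ((p.1⁻¹ : GL (Fin d) F) : Matrix (Fin d) (Fin d) F) 0 0
        ((p.2⁻¹ : GL (Fin d) F) : Matrix (Fin d) (Fin d) F)
      val_inv := by simp [Matrix.fromBlocks_multiply, Units.mul_inv]
      inv_val := by simp [Matrix.fromBlocks_multiply, Units.inv_mul] }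
  map_one' := Units.ext (by simp)
  map_mul' p r := Units.ext (by simp [Matrix.fromBlocks_multiply])

theorem coe_bd (a b : GL (Fin d) F) :
    ((bd (a, b) : GL (Fin d ⊕ Fin d) F) : Matrix (Fin d ⊕ Fin d) (Fin d ⊕ Fin d) F) =
      Matrix.fromBlocks (a : Matrix (Fin d) (Fin d) F) 0 0 (b : Matrix (Fin d) (Fin d) F) := rfl

theorem bd_injective : Function.Injective (bd (d := d) (F := F)) := by
  rintro ⟨a, b⟩ ⟨a', b'⟩ h
  have h' := congrArg Units.val h
  rw [coe_bd, coe_bd, Matrix.fromBlocks_inj] at h'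
  rw [Units.ext h'.1, Units.ext h'.2.2.2]

theorem det_bd (a b : GL (Fin d) F) : GeneralLinearGroup.det (bd (a, b)) =
    GeneralLinearGroup.det a * GeneralLinearGroup.det b := by
  refine Units.ext ?_
  rw [GeneralLinearGroup.val_det_apply, coe_bd, Matrix.det_fromBlocks_zero₂₁]
  simp

/-- The block swap. -/
def sw : GL (Fin d ⊕ Fin d) F where
  val := Matrix.fromBlocks 0 1 1 0
  inv := Matrix.fromBlocks 0 1 1 0
  val_inv := by simp [Matrix.fromBlocks_multiply]
  inv_val := by simp [Matrix.fromBlocks_multiply]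

theorem coe_sw : ((sw : GL (Fin d ⊕ Fin d) F) : Matrix (Fin d ⊕ Fin d) (Fin d ⊕ Fin d) F) =
    Matrix.fromBlocks 0 1 1 0 := rfl

theorem sw_mul_sw : (sw : GL (Fin d ⊕ Fin d) F) * sw = 1 :=
  Units.ext (by simp [coe_sw, Matrix.fromBlocks_multiply])

theorem sw_bd (a b : GL (Fin d) F) : sw * bd (a, b) = bd (b, a) * sw :=
  Units.ext (by simp [coe_sw, coe_bd, Matrix.fromBlocks_multiply])

theorem det_sw (hd : Even d) : GeneralLinearGroup.det (sw : GL (Fin d ⊕ Fin d) F) = 1 := by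
  refine Units.ext ?_
  rw [GeneralLinearGroup.val_det_apply, coe_sw,
    show (Matrix.fromBlocks 0 1 1 0 : Matrix (Fin d ⊕ Fin d) (Fin d ⊕ Fin d) F) =
      Matrix.fromBlocks 1 1 0 1 * Matrix.fromBlocks 1 0 (-1) 1 * Matrix.fromBlocks 1 1 0 1 *
        Matrix.fromBlocks (-1) 0 0 1 by simp [Matrix.fromBlocks_multiply],
    Matrix.det_mul, Matrix.det_mul, Matrix.det_mul, Matrix.det_fromBlocks_zero₂₁,
    Matrix.det_fromBlocks_zero₁₂, Matrix.det_fromBlocks_zero₂₁, Matrix.det_neg, Matrix.det_one,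
    Fintype.card_fin, Even.neg_one_pow hd]
  simp

theorem not_bd_sw (hd : 1 ≤ d) {a b a' b' : GL (Fin d) F} : bd (a, b) ≠ bd (a', b') * sw := by
  intro h
  have h' := congrArg Units.val h
  simp only [Units.val_mul, coe_sw, coe_bd, Matrix.fromBlocks_multiply, mul_zero, mul_one,
    add_zero, zero_add, Matrix.fromBlocks_inj] at h'
  haveI : Nonempty (Fin d) := ⟨⟨0, hd⟩⟩
  exact a.ne_zero h'.1

theorem exists_bd (g : GL (Fin d ⊕ Fin d) F)
    (h1 : (g : Matrix (Fin d ⊕ Fin d) (Fin d ⊕ Fin d) F).toBlocks₁₂ = 0)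
    (h2 : (g : Matrix (Fin d ⊕ Fin d) (Fin d ⊕ Fin d) F).toBlocks₂₁ = 0) :
    ∃ a b, g = bd (a, b) := by
  set M := (g : Matrix (Fin d ⊕ Fin d) (Fin d ⊕ Fin d) F)
  have hM : M = Matrix.fromBlocks M.toBlocks₁₁ 0 0 M.toBlocks₂₂ := by
    conv_lhs => rw [← Matrix.fromBlocks_toBlocks M, h1, h2]
  have hdet : M.det ≠ 0 := ((Matrix.isUnit_iff_isUnit_det _).1 g.isUnit).ne_zero
  rw [hM, Matrix.det_fromBlocks_zero₂₁] at hdet
  exact ⟨GeneralLinearGroup.mkOfDetNeZero _ (left_ne_zero_of_mul hdet),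
    GeneralLinearGroup.mkOfDetNeZero _ (right_ne_zero_of_mul hdet), Units.ext hM⟩

theorem scal_eq_bd (μ : Fˣ) : scal (d + d) F μ = toBig (bd (scal d F μ, scal d F μ)) := by
  refine Units.ext ?_
  rw [coe_scal, coe_toBig, coe_bd, coe_scal, Matrix.reindex_apply,
    show Matrix.fromBlocks ((μ : F) • (1 : Matrix (Fin d) (Fin d) F)) 0 0
      ((μ : F) • (1 : Matrix (Fin d) (Fin d) F)) = (μ : F) • 1 by
      rw [← Matrix.fromBlocks_one, Matrix.fromBlocks_smul, smul_zero],
    Matrix.submatrix_smul, Pi.smul_apply, Pi.smul_apply, Matrix.submatrix_one_equiv]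

theorem exists_scal (hd : 1 ≤ d) {g : GL (Fin d) F} (h : IsScalar g) : ∃ μ : Fˣ, g = scal d F μ := by
  obtain ⟨a, ha⟩ := h
  haveI : Nonempty (Fin d) := ⟨⟨0, hd⟩⟩
  refine ⟨Units.mk0 a (fun h0 => g.ne_zero (by rw [ha, h0, zero_smul])), Units.ext ?_⟩
  rw [coe_scal, Units.val_mk0]
  exact ha

theorem scal_injective (hd : 1 ≤ d) : Function.Injective (scal d F) := by
  intro a b h
  have h' := congrArg (fun g : GL (Fin d) F => (g : Matrix (Fin d) (Fin d) F) ⟨0, hd⟩ ⟨0, hd⟩) h
  rw [coe_scal, coe_scal] at h'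
  exact Units.ext (by simpa using h')

/-- The block diagonal and antidiagonal elements over a subgroup. -/
def double (S : Subgroup (GL (Fin d) F)) : Subgroup (GL (Fin d ⊕ Fin d) F) where
  carrier := {g | ∃ a ∈ S, ∃ b ∈ S, g = bd (a, b) ∨ g = bd (a, b) * sw}
  one_mem' := ⟨1, one_mem _, 1, one_mem _, Or.inl (map_one bd).symm⟩
  mul_mem' := by
    rintro g h ⟨a, ha, b, hb, hg⟩ ⟨a', ha', b', hb', hh⟩
    rcases hg with rfl | rfl <;> rcases hh with rfl | rfl
    · exact ⟨a * a', mul_mem ha ha', b * b', mul_mem hb hb', Or.inl (by rw [← map_mul]; rfl)⟩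
    · exact ⟨a * a', mul_mem ha ha', b * b', mul_mem hb hb', Or.inr (by
        rw [← mul_assoc, ← map_mul]; rfl)⟩
    · exact ⟨a * b', mul_mem ha hb', b * a', mul_mem hb ha', Or.inr (by
        rw [mul_assoc, sw_bd, ← mul_assoc, ← map_mul]; rfl)⟩
    · exact ⟨a * b', mul_mem ha hb', b * a', mul_mem hb ha', Or.inl (by
        rw [mul_assoc, ← mul_assoc sw, sw_bd, mul_assoc (bd (b', a')), sw_mul_sw, mul_one, ← map_mul]
        rfl)⟩
  inv_mem' := by
    rintro g ⟨a, ha, b, hb, rfl | rfl⟩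
    · exact ⟨a⁻¹, inv_mem ha, b⁻¹, inv_mem hb, Or.inl (by rw [← map_inv]; rfl)⟩
    · refine ⟨b⁻¹, inv_mem hb, a⁻¹, inv_mem ha, Or.inr ?_⟩
      rw [_root_.mul_inv_rev, inv_eq_of_mul_eq_one_right sw_mul_sw, ← map_inv]
      exact sw_bd a⁻¹ b⁻¹

theorem bd_mem_double (hd : 1 ≤ d) {S : Subgroup (GL (Fin d) F)} {a b : GL (Fin d) F} :
    bd (a, b) ∈ double S ↔ a ∈ S ∧ b ∈ S := by
  refine ⟨?_, fun h => ⟨a, h.1, b, h.2, Or.inl rfl⟩⟩
  rintro ⟨a', ha', b', hb', h | h⟩
  · have e := bd_injective h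
    rw [Prod.mk.injEq] at e
    exact ⟨e.1 ▸ ha', e.2 ▸ hb'⟩
  · exact absurd h (not_bd_sw hd)

theorem sw_mem_double (S : Subgroup (GL (Fin d) F)) : sw ∈ double S :=
  ⟨1, one_mem _, 1, one_mem _, Or.inr (by rw [Prod.mk_one_one, map_one, one_mul])⟩

theorem card_double (hd : 1 ≤ d) (S : Subgroup (GL (Fin d) F)) :
    Nat.card (double S) = 2 * (Nat.card S * Nat.card S) := by
  classical
  let f : Bool × (S × S) → double S := fun p =>
    ⟨bd ((p.2.1 : GL (Fin d) F), (p.2.2 : GL (Fin d) F)) * (if p.1 then sw else 1), by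
      refine mul_mem ((bd_mem_double hd).2 ⟨p.2.1.2, p.2.2.2⟩) ?_
      split_ifs
      exacts [sw_mem_double S, one_mem _]⟩
  have hf : Function.Bijective f := by
    constructor
    · rintro ⟨i, a, b⟩ ⟨j, a', b'⟩ h
      have h' := congrArg Subtype.val h
      simp only [f] at h'
      rcases i with _ | _ <;> rcases j with _ | _ <;>
        simp only [if_true, if_false, Bool.false_eq_true, mul_one] at h'
      · have e := bd_injective h'
        rw [Prod.mk.injEq] at e
        rw [Subtype.ext e.1, Subtype.ext e.2]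
      · exact absurd h' (not_bd_sw hd)
      · exact absurd h'.symm (not_bd_sw hd)
      · have e := bd_injective (mul_right_cancel h')
        rw [Prod.mk.injEq] at e
        rw [Subtype.ext e.1, Subtype.ext e.2]
    · rintro ⟨g, a, ha, b, hb, rfl | rfl⟩
      · exact ⟨(false, ⟨a, ha⟩, ⟨b, hb⟩), Subtype.ext (by simp [f])⟩
      · exact ⟨(true, ⟨a, ha⟩, ⟨b, hb⟩), Subtype.ext (by simp [f])⟩
  rw [← Nat.card_eq_of_bijective f hf, Nat.card_prod, Nat.card_prod,
    Nat.card_eq_fintype_card (α := Bool), Fintype.card_bool]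

/-- The strong form of the invariant: normalising the determinant one part suffices. -/
def StrongNorm {n : ℕ} (X S : Subgroup (GL (Fin n) F)) : Prop :=
  ∀ g ∈ X, Odd (orderOf g) →
    (∀ c ∈ S, GeneralLinearGroup.det c = 1 → g * c * g⁻¹ ∈ S) → IsScalar g

variable {X : Subgroup (GL (Fin d) F)} {X2 : Subgroup (GL (Fin (d + d)) F)}
  {S : Subgroup (GL (Fin d) F)}

section

variable (h2 : (2 : F) ≠ 0) (hd : 1 ≤ d) (hde : Even d) (hS : Good X S)

include h2 hd hde hS

theorem neg_ne_one : scal d F (-1) ≠ 1 := fun e => h2 (by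
  have h := congrArg Units.val (scal_injective hd (e.trans (map_one _).symm))
  simp at h
  linear_combination -h)

theorem det_neg' : GeneralLinearGroup.det (scal d F (-1)) = 1 := by
  rw [det_scal, Even.neg_one_pow hde]

/-- An element commuting with `(-1, 1)` is block diagonal. -/
theorem bd_of_comm {g : GL (Fin d ⊕ Fin d) F}
    (h : g * bd (scal d F (-1), 1) = bd (scal d F (-1), 1) * g) : ∃ a b, g = bd (a, b) := by
  set M := (g : Matrix (Fin d ⊕ Fin d) (Fin d ⊕ Fin d) F)
  have h' := congrArg Units.val h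
  rw [Units.val_mul, Units.val_mul, coe_bd, coe_scal,
    show (g : Matrix (Fin d ⊕ Fin d) (Fin d ⊕ Fin d) F) =
      Matrix.fromBlocks M.toBlocks₁₁ M.toBlocks₁₂ M.toBlocks₂₁ M.toBlocks₂₂ from
      (Matrix.fromBlocks_toBlocks M).symm,
    Matrix.fromBlocks_multiply, Matrix.fromBlocks_multiply] at h'
  simp only [Units.val_one, Units.val_neg, neg_smul, one_smul, mul_neg, neg_mul, mul_one, one_mul,
    mul_zero, zero_mul, add_zero, zero_add, Matrix.fromBlocks_inj] at h'
  obtain ⟨-, hB, hC, -⟩ := h'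
  have key : ∀ A : Matrix (Fin d) (Fin d) F, A = -A → A = 0 := fun A hA => by
    have h3 : (2 : F) • A = 0 := by rw [two_smul]; nth_rw 2 [hA]; exact add_neg_cancel A
    exact (smul_eq_zero.1 h3).resolve_left h2
  exact exists_bd g (key _ hB) (key _ hC.symm)

theorem good_double (hblk : ∀ a b, toBig (bd (a, b)) ∈ X2 ↔ a ∈ X ∧ b ∈ X)
    (hsw : toBig (sw : GL (Fin d ⊕ Fin d) F) ∈ X2)
    (hcard : (Nat.card X2).factorization 2 = 2 * (Nat.card X).factorization 2 + 1) :
    Good X2 ((double S).map toBig.toMonoidHom) ∧ StrongNorm X2 ((double S).map toBig.toMonoidHom) := by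
  have hmem : ∀ g, toBig g ∈ (double S).map toBig.toMonoidHom ↔ g ∈ double S := fun g =>
    Subgroup.mem_map_iff_mem toBig.injective
  obtain ⟨c₀, hc₀, hc₀d, hc₀s⟩ := hS.nonscalar
  have hnegne := neg_ne_one h2 hd hde hS
  have hdetneg := det_neg' h2 hd hde hS
  have hle : (double S).map toBig.toMonoidHom ≤ X2 := by
    rintro _ ⟨g, ⟨a, ha, b, hb, rfl | rfl⟩, rfl⟩
    · exact (hblk a b).2 ⟨hS.le ha, hS.le hb⟩
    · show toBig (bd (a, b) * sw) ∈ X2
      rw [map_mul]
      exact mul_mem ((hblk a b).2 ⟨hS.le ha, hS.le hb⟩) hsw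
  have hdet1 : ∀ a b, GeneralLinearGroup.det a = 1 → GeneralLinearGroup.det b = 1 →
      GeneralLinearGroup.det (toBig (bd (a, b) : GL (Fin d ⊕ Fin d) F)) = 1 := fun a b ha hb => by
    rw [det_toBig, det_bd, ha, hb, one_mul]
  have hbig : ∀ a b, IsScalar a → a = b → IsScalar (toBig (bd (a, b) : GL (Fin d ⊕ Fin d) F)) := by
    rintro a b ha rfl
    obtain ⟨μ, rfl⟩ := exists_scal hd ha
    rw [← scal_eq_bd]
    exact isScalar_scal μ
  have hneg2 : scal (d + d) F (-1) ∈ (double S).map toBig.toMonoidHom := by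
    rw [scal_eq_bd, hmem, bd_mem_double hd]
    exact ⟨hS.neg, hS.neg⟩
  have hnonsc : ∃ c ∈ (double S).map toBig.toMonoidHom,
      GeneralLinearGroup.det c = 1 ∧ ¬ IsScalar c := by
    refine ⟨toBig (bd (c₀, 1)), (hmem _).2 ((bd_mem_double hd).2 ⟨hc₀, one_mem _⟩),
      hdet1 _ _ hc₀d (map_one _), fun h => ?_⟩
    obtain ⟨μ, hμ⟩ := exists_scal (by omega) h
    rw [scal_eq_bd] at hμ
    have e := bd_injective (toBig.injective hμ)
    rw [Prod.mk.injEq] at e
    exact hc₀s (e.1 ▸ isScalar_scal μ)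
  have hcent : ∀ g ∈ X2, (∀ c ∈ (double S).map toBig.toMonoidHom,
      GeneralLinearGroup.det c = 1 → g * c = c * g) → IsScalar g := by
    intro g hgX hg
    obtain ⟨g, rfl⟩ := toBig.surjective g
    have hg' : ∀ c ∈ double S, GeneralLinearGroup.det (toBig c) = 1 → g * c = c * g := fun c hc hcd =>
      toBig.injective (by rw [map_mul, map_mul]; exact hg _ ((hmem _).2 hc) hcd)
    obtain ⟨a, b, rfl⟩ := bd_of_comm h2 hd hde hS (hg' (bd (scal d F (-1), 1))
      ((bd_mem_double hd).2 ⟨hS.neg, one_mem _⟩) (hdet1 _ _ hdetneg (map_one _)))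
    obtain ⟨haX, hbX⟩ := (hblk a b).1 hgX
    have ha : IsScalar a := hS.cent a haX fun c hc hcd => by
      have h := hg' (bd (c, 1)) ((bd_mem_double hd).2 ⟨hc, one_mem _⟩) (hdet1 _ _ hcd (map_one _))
      rw [← map_mul, ← map_mul] at h
      exact (Prod.mk.injEq _ _ _ _ ▸ bd_injective h).1
    have hs := hg' sw (sw_mem_double S) (by rw [det_toBig, det_sw hde])
    rw [sw_bd] at hs
    have e := bd_injective (mul_right_cancel hs)
    rw [Prod.mk.injEq] at e
    exact hbig a b ha e.1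
  have hstrong : StrongNorm X2 ((double S).map toBig.toMonoidHom) := by
    intro g hgX hgodd hgn
    obtain ⟨g, rfl⟩ := toBig.surjective g
    rw [MulEquiv.orderOf_eq] at hgodd
    set K := double S ⊓ (GeneralLinearGroup.det : GL (Fin d ⊕ Fin d) F →* Fˣ).ker with hKdef
    have hK : ∀ c, c ∈ K → g * c * g⁻¹ ∈ K := by
      rintro c ⟨hc, hcd : GeneralLinearGroup.det c = 1⟩
      refine ⟨(hmem _).1 ?_, ?_⟩
      · rw [map_mul, map_mul, map_inv]
        exact hgn _ ((hmem _).2 hc) (by rw [det_toBig, hcd])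
      · show GeneralLinearGroup.det (g * c * g⁻¹) = 1
        rw [map_mul, map_mul, map_inv, hcd, mul_one, mul_inv_cancel]
    have hK' : K.map (MulAut.conj g).toMonoidHom = K := Subgroup.eq_of_le_of_card_ge
      (by rintro _ ⟨c, hc, rfl⟩; exact hK c hc)
      (le_of_eq (Subgroup.card_map_of_injective (MulAut.conj g).injective).symm)
    set m := scal d F (-1)
    set z : GL (Fin d ⊕ Fin d) F := bd (1, m) with hz
    have hmm : m * m = 1 := by rw [← map_mul, neg_one_mul, neg_neg, map_one]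
    have hmc : ∀ a, m * a = a * m := fun a => (isScalar_scal (-1 : Fˣ)).comm a
    have hzK : z ∈ K := ⟨(bd_mem_double hd).2 ⟨one_mem _, hS.neg⟩, by
      show GeneralLinearGroup.det z = 1
      rw [hz, det_bd, map_one, one_mul, hdetneg]⟩
    have hzz : z * z = 1 := by rw [hz, ← map_mul, Prod.mk_mul_mk, one_mul, hmm, Prod.mk_one_one, map_one]
    set mm : GL (Fin d ⊕ Fin d) F := bd (m, m)
    have hmmc : ∀ x : GL (Fin d ⊕ Fin d) F, mm * x = x * mm := fun x => toBig.injective (by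
      rw [map_mul, map_mul, ← scal_eq_bd]
      exact (isScalar_scal (-1 : Fˣ)).comm _)
    have hzs : ∀ s ∈ K, z * s * z⁻¹ = s ∨ z * s * z⁻¹ = mm * s := by
      rintro s ⟨⟨a, _, b, _, rfl | rfl⟩, -⟩
      · refine Or.inl ?_
        rw [mul_inv_eq_iff_eq_mul, hz, ← map_mul, ← map_mul, Prod.mk_mul_mk, Prod.mk_mul_mk,
          one_mul, mul_one, hmc]
      · refine Or.inr ?_
        rw [mul_inv_eq_iff_eq_mul, hz, ← mul_assoc, ← map_mul, mul_assoc mm, mul_assoc (bd (a, b)),
          sw_bd, ← mul_assoc (bd (a, b)), ← map_mul, ← mul_assoc, ← map_mul, Prod.mk_mul_mk,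
          Prod.mk_mul_mk, Prod.mk_mul_mk, one_mul, mul_one, ← hmc a, ← mul_assoc, hmm, one_mul]
    set w := g * z * g⁻¹ with hw
    have hwK : w ∈ K := hK z hzK
    have hww : w * w = 1 := by
      rw [hw, show g * z * g⁻¹ * (g * z * g⁻¹) = g * (z * z) * g⁻¹ by group, hzz, mul_one,
        mul_inv_cancel]
    have hws : ∀ s ∈ K, w * s * w⁻¹ = s ∨ w * s * w⁻¹ = mm * s := by
      intro s hs
      rw [← hK'] at hs
      obtain ⟨s', hs', rfl⟩ := hs
      show w * (g * s' * g⁻¹) * w⁻¹ = g * s' * g⁻¹ ∨ w * (g * s' * g⁻¹) * w⁻¹ = mm * (g * s' * g⁻¹)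
      rw [show w * (g * s' * g⁻¹) * w⁻¹ = g * (z * s' * z⁻¹) * g⁻¹ by rw [hw]; group]
      rcases hzs s' hs' with e | e
      · exact Or.inl (by rw [e])
      · refine Or.inr ?_
        rw [e, show g * (mm * s') * g⁻¹ = (g * mm) * s' * g⁻¹ by group, ← hmmc g]; group
    have hcK : ∀ c ∈ S, GeneralLinearGroup.det c = 1 → bd (c, (1 : GL (Fin d) F)) ∈ K := fun c hc hcd =>
      ⟨(bd_mem_double hd).2 ⟨hc, one_mem _⟩, by
        show GeneralLinearGroup.det (bd (c, (1 : GL (Fin d) F))) = 1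
        rw [det_bd, hcd, map_one, one_mul]⟩
    have hcK' : ∀ c ∈ S, GeneralLinearGroup.det c = 1 → bd ((1 : GL (Fin d) F), c) ∈ K := fun c hc hcd =>
      ⟨(bd_mem_double hd).2 ⟨one_mem _, hc⟩, by
        show GeneralLinearGroup.det (bd ((1 : GL (Fin d) F), c)) = 1
        rw [det_bd, hcd, map_one, one_mul]⟩
    have hm1 : m ≠ 1 := hnegne
    obtain ⟨b1, hb1, b2, hb2, hwe | hwe⟩ := hwK.1
    swap
    · exfalso
      have e0 : ∀ c, w * bd (c, 1) * w⁻¹ = bd ((1 : GL (Fin d) F), b2 * c * b2⁻¹) := fun c => by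
        rw [hwe, mul_inv_eq_iff_eq_mul, mul_assoc (bd (b1, b2)), sw_bd, ← mul_assoc, ← map_mul,
          ← mul_assoc, ← map_mul]
        congr 2
        rw [Prod.mk_mul_mk, Prod.mk_mul_mk, mul_one, one_mul]
        congr 1
        group
      have h1 := hws _ (hcK c₀ hc₀ hc₀d)
      rw [e0, show mm * bd (c₀, 1) = bd (m * c₀, m) by
        rw [← map_mul, Prod.mk_mul_mk, mul_one]] at h1
      rcases h1 with h1 | h1 <;>
        (have e := bd_injective h1; rw [Prod.mk.injEq] at e)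
      · exact hc₀s (e.1 ▸ IsScalar.one)
      · have : c₀ = m := by
          rw [← one_mul c₀, ← hmm, mul_assoc, ← e.1, mul_one]
        exact hc₀s (this ▸ isScalar_scal _)
    -- `w` is block diagonal
    have hcomm : ∀ c ∈ S, GeneralLinearGroup.det c = 1 → b1 * c = c * b1 ∧ b2 * c = c * b2 := by
      intro c hc hcd
      have h1 := hws _ (hcK c hc hcd)
      have h1' := hws _ (hcK' c hc hcd)
      rw [hwe, ← map_inv, ← map_mul, ← map_mul] at h1 h1'
      simp only [mm, Prod.inv_mk, Prod.mk_mul_mk, mul_one, mul_inv_cancel, ← map_mul] at h1 h1'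
      refine ⟨?_, ?_⟩
      · rcases h1 with h1 | h1 <;> have e := bd_injective h1 <;> rw [Prod.mk.injEq] at e
        · exact mul_inv_eq_iff_eq_mul.1 e.1
        · exact absurd e.2.symm hm1
      · rcases h1' with h1' | h1' <;> have e := bd_injective h1' <;> rw [Prod.mk.injEq] at e
        · exact mul_inv_eq_iff_eq_mul.1 e.2
        · exact absurd e.1.symm hm1
    obtain ⟨μ, hμ⟩ := exists_scal hd (hS.cent b1 (hS.le hb1) fun c hc hcd => (hcomm c hc hcd).1)
    obtain ⟨ν, hν⟩ := exists_scal hd (hS.cent b2 (hS.le hb2) fun c hc hcd => (hcomm c hc hcd).2)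
    have hsK : (sw : GL (Fin d ⊕ Fin d) F) ∈ K := ⟨sw_mem_double S, det_sw hde⟩
    have hsame : b1 = b2 ∨ b1 = m * b2 := by
      have e0 : w * sw * w⁻¹ = bd (b1 * b2⁻¹, b2 * b1⁻¹) * sw := by
        rw [hwe, ← map_inv, mul_assoc, sw_bd, ← mul_assoc, ← map_mul]; rfl
      rcases hws _ hsK with h | h <;> rw [e0] at h
      · refine Or.inl ?_
        have e := bd_injective (show bd (b1 * b2⁻¹, b2 * b1⁻¹) = bd (1, 1) by
          rw [Prod.mk_one_one, map_one]; exact mul_eq_right.1 h)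
        rw [Prod.mk.injEq] at e
        exact mul_inv_eq_one.1 e.1
      · refine Or.inr ?_
        have e := bd_injective (mul_right_cancel h)
        rw [Prod.mk.injEq] at e
        rw [← e.1, inv_mul_cancel_right]
    have hb12 : b1 * b1 = 1 := by
      have h := hww
      rw [hwe, ← map_mul, ← map_one bd] at h
      exact congrArg Prod.fst (bd_injective h)
    have hμ1 : μ = 1 ∨ μ = -1 := by
      rw [hμ, ← map_mul, ← map_one (scal d F)] at hb12
      have h := congrArg Units.val (scal_injective hd hb12)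
      rw [Units.val_mul, Units.val_one] at h
      rcases mul_self_eq_one_iff.1 h with e | e
      · exact Or.inl (Units.ext e)
      · exact Or.inr (Units.ext e)
    have hne : b1 ≠ b2 := by
      rintro rfl
      have hwc : ∀ x : GL (Fin d ⊕ Fin d) F, w * x = x * w := fun x => toBig.injective (by
        rw [hwe, hμ, map_mul, map_mul, ← scal_eq_bd]
        exact (isScalar_scal μ).comm _)
      have e : w = z := by
        have h := hwc g
        nth_rw 1 [hw] at h
        rw [inv_mul_cancel_right] at h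
        exact (mul_left_cancel h).symm
      rw [hwe, hz] at e
      have e' := bd_injective e
      rw [Prod.mk.injEq] at e'
      exact hm1 (e'.2.symm.trans e'.1)
    have hb12' := hsame.resolve_left hne
    have hb2' : b2 = m * b1 := by rw [hb12', ← mul_assoc, hmm, one_mul]
    have hwz : w = z ∨ w = mm * z := by
      rw [hwe, hb2', hμ]
      rcases hμ1 with rfl | rfl
      · exact Or.inl (by rw [map_one, mul_one, hz])
      · refine Or.inr ?_
        show bd (m, m * m) = bd (m, m) * bd (1, m)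
        rw [← map_mul bd, Prod.mk_mul_mk, mul_one]
    -- `g` is block diagonal
    have hg2 : (g * g) * z = z * (g * g) := by
      have e : g * g * z * (g * g)⁻¹ = z := by
        rw [show g * g * z * (g * g)⁻¹ = g * w * g⁻¹ by rw [hw]; group]
        rcases hwz with e | e
        · rw [e]; exact (hw.symm.trans e)
        · rw [e, show g * (mm * z) * g⁻¹ = (g * mm) * z * g⁻¹ by group, ← hmmc g,
            show mm * g * z * g⁻¹ = mm * w by rw [hw]; group, e, ← mul_assoc]
          rw [show mm * mm = 1 by rw [← map_mul, Prod.mk_mul_mk, hmm, Prod.mk_one_one, map_one], one_mul]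
      exact mul_inv_eq_iff_eq_mul.1 e
    obtain ⟨o, ho⟩ := hgodd
    have hgz : g * z = z * g := by
      have e : g = (g * g) ^ (o + 1) := by
        rw [← sq, ← pow_mul, show 2 * (o + 1) = orderOf g + 1 by omega, pow_succ, pow_orderOf_eq_one,
          one_mul]
      rw [e]
      exact ((show Commute (g * g) z from hg2).pow_left _).eq
    obtain ⟨g1, g2, rfl⟩ := bd_of_comm h2 hd hde hS (g := g) (by
      have e : bd (m, (1 : GL (Fin d) F)) = mm * z := by
        rw [hz, ← map_mul, Prod.mk_mul_mk, mul_one, hmm]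
      rw [e, ← mul_assoc, ← hmmc g, mul_assoc, hgz, ← mul_assoc])
    obtain ⟨hg1X, hg2X⟩ := (hblk g1 g2).1 hgX
    have hpow : g1 ^ (2 * o + 1) = 1 ∧ g2 ^ (2 * o + 1) = 1 := by
      have h : bd ((g1, g2) ^ (2 * o + 1)) = bd 1 := by
        rw [map_pow, map_one, ← ho, pow_orderOf_eq_one]
      exact ⟨congrArg Prod.fst (bd_injective h), congrArg Prod.snd (bd_injective h)⟩
    have hodd : ∀ x : GL (Fin d) F, x ^ (2 * o + 1) = 1 → Odd (orderOf x) := fun x hx =>
      Odd.of_dvd_nat ⟨o, rfl⟩ (orderOf_dvd_of_pow_eq_one hx)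
    have hnorm : ∀ c ∈ S, g1 * c * g1⁻¹ ∈ S ∧ g2 * c⁻¹ * g2⁻¹ ∈ S := by
      intro c hc
      have h := hK (bd (c, c⁻¹)) ⟨(bd_mem_double hd).2 ⟨hc, inv_mem hc⟩, by
        show GeneralLinearGroup.det (bd (c, c⁻¹)) = 1
        rw [det_bd, map_inv, mul_inv_cancel]⟩
      rw [← map_inv, ← map_mul, ← map_mul] at h
      exact (bd_mem_double hd).1 h.1
    obtain ⟨μ1, hμ1'⟩ := exists_scal hd (hS.norm g1 hg1X (hodd _ hpow.1) fun c hc => (hnorm c hc).1)
    obtain ⟨μ2, hμ2'⟩ := exists_scal hd (hS.norm g2 hg2X (hodd _ hpow.2) fun c hc => by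
      have := (hnorm c⁻¹ (inv_mem hc)).2
      rwa [inv_inv] at this)
    have hq : scal d F (μ1 * μ2⁻¹) ∈ S := by
      have h := (hK sw hsK).1
      rw [← map_inv, mul_assoc, sw_bd, ← mul_assoc, ← map_mul] at h
      have h' := (double S).mul_mem h (sw_mem_double S)
      rw [mul_assoc, sw_mul_sw, mul_one] at h'
      have := ((bd_mem_double hd).1 h').1
      rw [hμ1', hμ2'] at this
      simpa [map_mul, map_inv] using this
    have h21 : μ1 * μ2⁻¹ = 1 := by
      have hp1 : (scal d F (μ1 * μ2⁻¹)) ^ (2 * o + 1) = 1 := by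
        rw [map_mul, map_inv, ← hμ1', ← hμ2',
          (show Commute g1 g2⁻¹ from (show IsScalar g1 from hμ1' ▸ isScalar_scal μ1).comm _).mul_pow,
          hpow.1, inv_pow, hpow.2, inv_one, one_mul]
      obtain ⟨k, hk⟩ := IsPGroup.iff_orderOf.1 (IsPGroup.of_card hS.card : IsPGroup 2 S) ⟨_, hq⟩
      rw [Subgroup.orderOf_mk] at hk
      have hdd := orderOf_dvd_of_pow_eq_one hp1
      rw [hk] at hdd
      rcases Nat.eq_zero_or_pos k with rfl | hk0
      · exact scal_injective hd ((orderOf_eq_one_iff.1 (by simpa using hk)).trans (map_one _).symm)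
      · exact absurd ((dvd_pow_self 2 hk0.ne').trans hdd) (by omega)
    rw [mul_inv_eq_one] at h21
    exact hbig g1 g2 (hμ1' ▸ isScalar_scal μ1) (by rw [hμ1', hμ2', h21])
  refine ⟨⟨hle, ?_, hneg2, hnonsc, hcent, fun g hgX hgo hg => hstrong g hgX hgo fun c hc _ => hg c hc⟩,
    hstrong⟩
  rw [Subgroup.card_map_of_injective (f := toBig.toMonoidHom) toBig.injective, card_double hd, hS.card,
    hcard]
  ring

end

end Cfsg.Agent.Classical.OddIndex.OddStep
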