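import Mathlib
import Cfsg.Agent.Lib.Classical.Linear
import Cfsg.Agent.Lib.Classical.UnitaryFrames

/-!
# The 2-part of the orders of `GL_n` and `GU_n` in odd characteristic
-/

set_option autoImplicit false
set_option linter.unusedSectionVars false

namespace Cfsg.Agent.Classical.OddIndex.TwoAdic

/-- The 2-adic valuation of `Q ^ i - 1`. -/
def val (Q : ℤ) (i : ℕ) : ℕ := ((Q ^ i - 1).natAbs).factorization 2

/-- The 2-adic valuation of the product of `Q ^ i - 1`, `1 ≤ i ≤ n`. -/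
def total (Q : ℤ) (n : ℕ) : ℕ := ∑ i ∈ Finset.range n, val Q (i + 1)

theorem natAbs_ne_zero {Q : ℤ} (hQ : 2 ≤ Q.natAbs) {i : ℕ} (hi : i ≠ 0) :
    (Q ^ i - 1).natAbs ≠ 0 := by
  rw [Int.natAbs_ne_zero, sub_ne_zero]
  intro e
  have h := congrArg Int.natAbs e
  rw [Int.natAbs_pow] at h
  have : 2 ≤ Q.natAbs ^ i := le_trans hQ (Nat.le_self_pow hi _)
  simp at h
  omega

theorem val_odd_mul {Q : ℤ} (hQ : Odd Q) (h2 : 2 ≤ Q.natAbs) {j o : ℕ} (hj : j ≠ 0) (ho : Odd o) :
    val Q (j * o) = val Q j := by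
  unfold val
  set R := Q ^ j
  have hR : ((R : ℤ) : ZMod 2) = 1 := by
    obtain ⟨t, ht⟩ := hQ.pow (n := j)
    rw [show R = 2 * t + 1 from ht]
    push_cast
    rw [show (2 : ZMod 2) = 0 from rfl, zero_mul, zero_add]
  have hs : Odd (∑ l ∈ Finset.range o, R ^ l) := by
    rw [← Int.not_even_iff_odd, even_iff_two_dvd]
    intro hd
    have h0 := (ZMod.intCast_zmod_eq_zero_iff_dvd _ 2).2 hd
    push_cast at h0
    rw [hR] at h0
    simp only [one_pow, Finset.sum_const, Finset.card_range, nsmul_one] at h0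
    obtain ⟨k, rfl⟩ := ho
    push_cast at h0
    rw [show (2 : ZMod 2) = 0 from rfl, zero_mul, zero_add] at h0
    exact one_ne_zero h0
  have hsne : (∑ l ∈ Finset.range o, R ^ l).natAbs ≠ 0 := Int.natAbs_ne_zero.2 fun e => by
    rw [e] at hs
    exact Int.not_even_iff_odd.2 hs Even.zero
  rw [show Q ^ (j * o) = R ^ o from pow_mul Q j o, ← geom_sum_mul, Int.natAbs_mul, Nat.factorization_mul hsne (natAbs_ne_zero h2 hj), Finsupp.add_apply]
  have hso : ¬ 2 ∣ (∑ l ∈ Finset.range o, R ^ l).natAbs := by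
    rw [← even_iff_two_dvd, Nat.not_even_iff_odd, Int.natAbs_odd]
    exact hs
  rw [Nat.factorization_eq_zero_of_not_dvd hso, zero_add]

theorem val_double {Q : ℤ} (hQ : Odd Q) (h2 : 2 ≤ Q.natAbs) {d : ℕ} (hd : d ≠ 0) (he : Even d) :
    val Q (d + d) = val Q d + 1 := by
  unfold val
  obtain ⟨m, rfl⟩ := he
  obtain ⟨t, ht⟩ := hQ.pow (n := m)
  have e : Q ^ (m + m + (m + m)) - 1 = (Q ^ (m + m) - 1) * (2 * (2 * t * t + 2 * t + 1)) := by
    rw [pow_add, pow_add, ht]; ring
  rw [e, Int.natAbs_mul, Int.natAbs_mul, show (2 : ℤ).natAbs = 2 from rfl]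
  have hodd : ¬ 2 ∣ (2 * t * t + 2 * t + 1).natAbs := by
    rw [← even_iff_two_dvd, Nat.not_even_iff_odd, Int.natAbs_odd]
    exact ⟨t * t + t, by ring⟩
  have hne : (2 * t * t + 2 * t + 1).natAbs ≠ 0 := fun h => hodd (by rw [h]; exact dvd_zero 2)
  rw [Nat.factorization_mul (natAbs_ne_zero h2 hd) (mul_ne_zero two_ne_zero hne),
    Nat.factorization_mul two_ne_zero hne, Finsupp.add_apply, Finsupp.add_apply,
    Nat.prime_two.factorization_self, Nat.factorization_eq_zero_of_not_dvd hodd, add_zero]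

theorem total_double {Q : ℤ} (hQ : Odd Q) (h2 : 2 ≤ Q.natAbs) {k : ℕ} (hk : 1 ≤ k) :
    total Q (2 ^ k + 2 ^ k) = 2 * total Q (2 ^ k) + 1 := by
  unfold total
  set d := 2 ^ k
  obtain ⟨e, he⟩ : ∃ e, d = e + 1 := ⟨d - 1, by have := Nat.two_pow_pos k; omega⟩
  have heven : Even d := Nat.even_pow.2 ⟨even_two, by omega⟩
  have hlow : ∀ i ∈ Finset.range e, val Q (d + (i + 1)) = val Q (i + 1) := by
    intro i hi
    rw [Finset.mem_range] at hi
    obtain ⟨j, o, ho, hjo⟩ := Nat.exists_eq_two_pow_mul_odd (show i + 1 ≠ 0 by omega)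
    have hj : j < k := by
      by_contra hj
      have h3 : 2 ^ k ≤ 2 ^ j := Nat.pow_le_pow_right two_pos (by omega)
      obtain ⟨o', rfl⟩ := ho
      have h4 : 2 ^ j ≤ 2 ^ j * (2 * o' + 1) := Nat.le_mul_of_pos_right _ (by omega)
      omega
    obtain ⟨l, rfl⟩ : ∃ l, k = j + (l + 1) := ⟨k - j - 1, by omega⟩
    have e1 : d + (i + 1) = 2 ^ j * (2 * 2 ^ l + o) := by
      show 2 ^ (j + (l + 1)) + (i + 1) = _
      rw [hjo, pow_add, pow_succ]; ring
    rw [e1, hjo, val_odd_mul hQ h2 (pow_ne_zero _ two_ne_zero) (by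
      obtain ⟨o', rfl⟩ := ho
      exact ⟨2 ^ l + o', by ring⟩), val_odd_mul hQ h2 (pow_ne_zero _ two_ne_zero) ho]
  rw [Finset.sum_range_add]
  conv_lhs => arg 2; rw [he, Finset.sum_range_succ, Finset.sum_congr rfl (fun i hi => by
    rw [show e + 1 + i + 1 = d + (i + 1) by omega, hlow i hi])]
  rw [show e + 1 + e + 1 = d + d by omega, val_double hQ h2 (by omega) heven, two_mul]
  conv_rhs => arg 1; arg 2; rw [he, Finset.sum_range_succ, show e + 1 = d from he.symm]
  omega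

theorem factorization_GL {F : Type*} [Field F] [Fintype F] (hF : Odd (Fintype.card F)) (n : ℕ) :
    (Nat.card (Matrix.GeneralLinearGroup (Fin n) F)).factorization 2 = total (Fintype.card F) n := by
  have hq := Fintype.one_lt_card (α := F)
  have hpos : ∀ i : Fin n, Fintype.card F ^ n - Fintype.card F ^ (i : ℕ) ≠ 0 := fun i => by
    have := Nat.pow_lt_pow_right hq i.isLt
    omega
  rw [Linear.natCard_GL_fin, Nat.factorization_prod (fun i _ => hpos i), Finset.sum_apply', total,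
    Fin.sum_univ_eq_sum_range (fun i => (Fintype.card F ^ n - Fintype.card F ^ i).factorization 2),
    ← Finset.sum_range_reflect]
  refine Finset.sum_congr rfl fun i hi => ?_
  rw [Finset.mem_range] at hi
  obtain ⟨r, rfl⟩ : ∃ r, n = i + 1 + r := ⟨n - (i + 1), by omega⟩
  have hq2 : ¬ 2 ∣ Fintype.card F := by rw [Nat.odd_iff] at hF; omega
  have h1 : 1 ≤ Fintype.card F ^ (i + 1) := Nat.one_le_pow _ _ (by omega)
  have h3 : Fintype.card F ^ (i + 1) - 1 ≠ 0 := by
    have := Nat.pow_lt_pow_right hq (show 0 < i + 1 by omega)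
    rw [pow_zero] at this
    omega
  rw [show i + 1 + r - 1 - i = r by omega,
    show Fintype.card F ^ (i + 1 + r) - Fintype.card F ^ r =
      Fintype.card F ^ r * (Fintype.card F ^ (i + 1) - 1) by rw [Nat.mul_sub, mul_one, ← pow_add, add_comm],
    Nat.factorization_mul (pow_ne_zero _ (by omega)) h3, Nat.factorization_pow, Finsupp.add_apply,
    Finsupp.smul_apply, Nat.factorization_eq_zero_of_not_dvd hq2, smul_zero, zero_add, val]
  congr 2
  have : ((Fintype.card F : ℤ) ^ (i + 1) - 1) = ((Fintype.card F ^ (i + 1) - 1 : ℕ) : ℤ) := by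
    rw [Nat.cast_sub h1]; push_cast; rfl
  rw [this, Int.natAbs_natCast]

theorem factorization_GU {F : Type*} [Field F] [Fintype F] {q : ℕ} (hF : Fintype.card F = q ^ 2)
    (hq : Odd q) (n : ℕ) :
    (Nat.card (Cfsg.GU n F q)).factorization 2 = total (-(q : ℤ)) n := by
  have h1q := Cfsg.Agent.Forms.HermStd.one_lt_q hF
  have hq2 : ¬ 2 ∣ q := by rw [Nat.odd_iff] at hq; omega
  have hne : ∀ i ∈ Finset.range n, (if Even i then q ^ (i + 1) + 1 else q ^ (i + 1) - 1) ≠ 0 := by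
    intro i _
    have := Nat.pow_lt_pow_right h1q (show 0 < i + 1 by omega)
    rw [pow_zero] at this
    split_ifs <;> omega
  rw [Unitary.natCard_GU hF, Nat.factorization_mul (pow_ne_zero _ (by omega))
    (Finset.prod_ne_zero_iff.2 hne), Nat.factorization_pow, Finsupp.add_apply, Finsupp.smul_apply,
    Nat.factorization_eq_zero_of_not_dvd hq2, smul_zero, zero_add, Nat.factorization_prod hne,
    Finset.sum_apply', total]
  refine Finset.sum_congr rfl fun i _ => ?_
  rw [val]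
  congr 2
  have h1 : 1 ≤ q ^ (i + 1) := Nat.one_le_pow _ _ (by omega)
  by_cases he : Even i
  · rw [if_pos he, Odd.neg_pow (Even.add_one he),
      show -((q : ℤ) ^ (i + 1)) - 1 = -((q ^ (i + 1) + 1 : ℕ) : ℤ) by push_cast; ring, Int.natAbs_neg,
      Int.natAbs_natCast]
  · rw [if_neg he, Even.neg_pow (Nat.even_add_one.2 he),
      show ((q : ℤ) ^ (i + 1)) - 1 = ((q ^ (i + 1) - 1 : ℕ) : ℤ) by rw [Nat.cast_sub h1]; push_cast; rfl,
      Int.natAbs_natCast]

end Cfsg.Agent.Classical.OddIndex.TwoAdic
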