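import Mathlib
import Cfsg.Prelude.Def_LieClassical
import Cfsg.Agent.Lib.Classical.OddIndex.TwoAdic
import Cfsg.Agent.Lib.Classical.OddIndex.OddStep
import Cfsg.Agent.Lib.Classical.UnitaryTwo
import Cfsg.Agent.SimpleFacts.SUMult.Blocks

/-!
# Odd index subgroups in dimension a power of 2, odd characteristic
-/

set_option autoImplicit false
set_option linter.unusedSectionVars false

namespace Cfsg.Agent.Classical.OddIndex.OddMain

open Matrix OddBase OddStep
open scoped MatrixGroups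

universe u

variable {F : Type u} [Field F] [Fintype F]

/-- A Sylow subgroup with the strong invariant exists. -/
def Invariant {n : ℕ} (X : Subgroup (GL (Fin n) F)) : Prop :=
  ∃ S, Good X S ∧ StrongNorm X S

theorem invariant_of_family (h2 : (2 : F) ≠ 0) (X : ∀ n, Subgroup (GL (Fin n) F))
    (hbase : ∃ S, Good (X 2) S)
    (hblk : ∀ d a b, toBig (bd (a, b)) ∈ X (d + d) ↔ a ∈ X d ∧ b ∈ X d)
    (hsw : ∀ d, toBig (sw : GL (Fin d ⊕ Fin d) F) ∈ X (d + d))
    (hv : ∀ k, 1 ≤ k → (Nat.card (X (2 ^ k + 2 ^ k))).factorization 2 =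
      2 * (Nat.card (X (2 ^ k))).factorization 2 + 1) :
    ∀ w, 2 ≤ w → Invariant (X (2 ^ w)) := by
  have step : ∀ k, 1 ≤ k → (∃ S, Good (X (2 ^ k)) S) → Invariant (X (2 ^ k + 2 ^ k)) := by
    intro k hk ⟨S, hS⟩
    exact ⟨_, good_double h2 Nat.one_le_two_pow ((Nat.even_pow).2 ⟨even_two, by omega⟩) hS
      (hblk _) (hsw _) (hv k hk)⟩
  intro w hw
  induction w, hw using Nat.le_induction with
  | base =>
    have h := step 1 le_rfl (by simpa using hbase)
    exact (show (2 : ℕ) ^ 2 = 2 ^ 1 + 2 ^ 1 by norm_num) ▸ h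
  | succ w hw ih =>
    obtain ⟨S, hS, -⟩ := ih
    have h := step w (by omega) ⟨S, hS⟩
    exact (show (2 : ℕ) ^ (w + 1) = 2 ^ w + 2 ^ w by omega) ▸ h

/-- The subgroups of odd index of the projective quotient are pronormal. -/
theorem isPronormal_of_invariant {n : ℕ} {X : Subgroup (GL (Fin n) F)} (hX : Invariant X)
    (H : Subgroup (X.comap SpecialLinearGroup.toGL ⧸
      Subgroup.center (X.comap SpecialLinearGroup.toGL))) (hH : Odd H.index) :
    Cfsg.IsPronormal H := by
  have : Fact (Nat.Prime 2) := ⟨Nat.prime_two⟩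
  obtain ⟨S, hS, hstr⟩ := hX
  let G1 := X.comap SpecialLinearGroup.toGL
  refine of_surjective (QuotientGroup.mk' (Subgroup.center G1)) (QuotientGroup.mk'_surjective _)
    (fun K hK hKodd => of_normalizer_le K hKodd fun R hR => ?_) H hH
  rw [QuotientGroup.ker_mk'] at hK
  refine le_trans (le_trans (normalizer_le_sup R (Subgroup.center G1) ?_) (sup_le hR hK))
    Subgroup.le_normalizer
  intro x hx hxo
  set S0 := (S.comap SpecialLinearGroup.toGL).subgroupOf G1 with hS0
  have hS0card : Nat.card S0 = 2 ^ (Nat.card G1).factorization 2 := by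
    rw [hS0, Nat.card_congr (Subgroup.subgroupOfEquivOfLe (Subgroup.comap_mono hS.le)).toEquiv,
      (split_det X S hS.le hS.card).1]
  obtain ⟨c, hc⟩ := MulAction.exists_smul_eq G1 R (Sylow.ofCard S0 hS0card)
  have hRc : ∀ y, y ∈ S0 ↔ c⁻¹ * y * c ∈ R := by
    intro y
    have e : S0 = (R : Subgroup G1).map (MulAut.conj c).toMonoidHom :=
      (congrArg Sylow.toSubgroup hc).symm
    rw [e, Subgroup.mem_map]
    constructor
    · rintro ⟨r, hr, rfl⟩
      show c⁻¹ * (c * r * c⁻¹) * c ∈ (R : Subgroup G1)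
      simpa [mul_assoc] using hr
    · intro h
      exact ⟨_, h, by simp [mul_assoc]⟩
  set y := c * x * c⁻¹ with hy
  have hyo : Odd (orderOf (y : SpecialLinearGroup (Fin n) F)) := by
    rw [Subgroup.orderOf_coe, hy, show c * x * c⁻¹ = MulAut.conj c x from rfl, MulEquiv.orderOf_eq]
    exact hxo
  have hys : IsScalar (SpecialLinearGroup.toGL (y : SpecialLinearGroup (Fin n) F)) := by
    refine hstr _ y.2 (by rwa [orderOf_injective _ SpecialLinearGroup.toGL_injective]) fun s hs hsd => ?_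
    obtain ⟨t, rfl⟩ : ∃ t : SpecialLinearGroup (Fin n) F, SpecialLinearGroup.toGL t = s :=
      ⟨⟨(s : Matrix (Fin n) (Fin n) F), congrArg Units.val hsd⟩, Units.ext rfl⟩
    have ht : t ∈ G1 := hS.le hs
    have h1 : c⁻¹ * (⟨t, ht⟩ : G1) * c ∈ R := (hRc _).1 hs
    have h2 : y * ⟨t, ht⟩ * y⁻¹ ∈ S0 := by
      rw [hRc, hy, show c⁻¹ * (c * x * c⁻¹ * ⟨t, ht⟩ * (c * x * c⁻¹)⁻¹) * c =
        x * (c⁻¹ * ⟨t, ht⟩ * c) * x⁻¹ by group]
      exact (Subgroup.mem_normalizer_iff.1 hx _).1 h1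
    rw [← map_inv, ← map_mul, ← map_mul]
    exact h2
  have hyc : y ∈ Subgroup.center G1 := by
    refine Subgroup.mem_center_iff.2 fun z => Subtype.ext (SpecialLinearGroup.toGL_injective ?_)
    simp only [Subgroup.coe_mul, map_mul]
    exact (hys.comm _).symm
  have hxy : x = y := by
    have h := Subgroup.mem_center_iff.1 hyc c⁻¹
    rw [hy] at h ⊢
    have h' : x * c⁻¹ = c * x * c⁻¹ * c⁻¹ := by rw [← h]; group
    exact mul_right_cancel h'
  rw [hxy]; exact hyc

section LinearPart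

theorem invariant_GL (hF : Odd (Fintype.card F)) (w : ℕ) (hw : 2 ≤ w) :
    Invariant (⊤ : Subgroup (GL (Fin (2 ^ w)) F)) := by
  have h2 : (2 : F) ≠ 0 := SylowSL2.two_ne_zero_of_odd hF
  refine invariant_of_family h2 (fun _ => ⊤) ?_ (fun d a b => by simp) (fun d => trivial) ?_ w hw
  · have hD : ∀ μ : Fˣ, μ ∈ (⊤ : Subgroup (GL (Fin 2) F)).map GeneralLinearGroup.det := fun μ => by
      refine ⟨GeneralLinearGroup.mkOfDetNeZero (Matrix.diagonal ![(μ : F), 1])
        (by simp [Matrix.det_diagonal]), trivial, Units.ext ?_⟩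
      simp [GeneralLinearGroup.val_det_apply, Matrix.det_diagonal]
    obtain ⟨P⟩ : Nonempty (Sylow 2 (⊤ : Subgroup (GL (Fin 2) F))) := inferInstance
    exact ⟨_, good_of_sylow ⊤ h2 (K := F) hF
      ((MulEquiv.subgroupCongr (Subgroup.comap_top _)).trans Subgroup.topEquiv)
      (fun μ => ⟨fun _ => hD μ, fun _ => trivial⟩) (hD _) P⟩
  · intro k hk
    rw [Nat.card_congr Subgroup.topEquiv.toEquiv, Nat.card_congr Subgroup.topEquiv.toEquiv,
      TwoAdic.factorization_GL hF, TwoAdic.factorization_GL hF]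
    refine TwoAdic.total_double ?_ ?_ hk
    · rw [Int.odd_coe_nat]; exact hF
    · rw [Int.natAbs_natCast]; exact Fintype.one_lt_card

theorem isPronormal_PSL (hF : Odd (Fintype.card F)) (w : ℕ) (hw : 2 ≤ w)
    (H : Subgroup (Matrix.ProjectiveSpecialLinearGroup (Fin (2 ^ w)) F)) (hH : Odd H.index) :
    Cfsg.IsPronormal H := by
  let e : (⊤ : Subgroup (GL (Fin (2 ^ w)) F)).comap SpecialLinearGroup.toGL ≃*
      SpecialLinearGroup (Fin (2 ^ w)) F :=
    (MulEquiv.subgroupCongr (Subgroup.comap_top _)).trans Subgroup.topEquiv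
  have hc : (Subgroup.center _).map e.toMonoidHom =
      Subgroup.center (SpecialLinearGroup (Fin (2 ^ w)) F) := by
    ext x
    obtain ⟨x, rfl⟩ := e.surjective x
    rw [show e x = e.toMonoidHom x from rfl, Subgroup.mem_map_iff_mem e.injective,
      Subgroup.mem_center_iff, Subgroup.mem_center_iff]
    constructor
    · intro h z
      obtain ⟨z, rfl⟩ := e.surjective z
      show e z * e x = e x * e z
      rw [← map_mul, ← map_mul, h]
    · intro h z
      refine e.injective ?_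
      rw [map_mul, map_mul]
      exact h (e z)
  let Φ := QuotientGroup.congr _ _ e hc
  refine of_surjective Φ.toMonoidHom Φ.surjective
    (fun K _ hK => isPronormal_of_invariant (invariant_GL hF w hw) K hK) H hH

end LinearPart

section UnitaryPart

variable {q : ℕ} (hF : Fintype.card F = q ^ 2)

include hF

theorem scal_mem_GU {n : ℕ} (hn : 1 ≤ n) (μ : Fˣ) :
    scal n F μ ∈ Cfsg.GU n F q ↔ (μ : F) ^ (q + 1) = 1 := by
  have e : ∀ x : Fin n → F,
      ((scal n F μ : GL (Fin n) F) : Matrix (Fin n) (Fin n) F) *ᵥ x = (μ : F) • x := fun x => by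
    rw [coe_scal, Matrix.smul_mulVec, Matrix.one_mulVec]
  constructor
  · intro h
    have h1 : Cfsg.hermForm n F q
        (((scal n F μ : GL (Fin n) F) : Matrix (Fin n) (Fin n) F) *ᵥ Pi.single ⟨0, hn⟩ 1)
        (((scal n F μ : GL (Fin n) F) : Matrix (Fin n) (Fin n) F) *ᵥ Pi.single ⟨0, hn⟩ 1) =
        Cfsg.hermForm n F q (Pi.single ⟨0, hn⟩ 1) (Pi.single ⟨0, hn⟩ 1) := h _ _
    rw [e, Unitary.H_smul_left, Unitary.H_smul_right, Unitary.H_single_single hF, if_pos rfl,
      mul_one] at h1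
    rw [pow_succ']; exact h1
  · intro h u v
    show Cfsg.hermForm n F q (((scal n F μ : GL (Fin n) F) : Matrix (Fin n) (Fin n) F) *ᵥ u)
      (((scal n F μ : GL (Fin n) F) : Matrix (Fin n) (Fin n) F) *ᵥ v) = _
    rw [e, e, Unitary.H_smul_left, Unitary.H_smul_right, ← mul_assoc, ← pow_succ', h, one_mul]

omit hF in
theorem toBig_mulVec {d : ℕ} (A B C D : Matrix (Fin d) (Fin d) F) (g : GL (Fin d ⊕ Fin d) F)
    (hg : (g : Matrix (Fin d ⊕ Fin d) (Fin d ⊕ Fin d) F) = Matrix.fromBlocks A B C D)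
    (x y : Fin d → F) :
    ((toBig g : GL (Fin (d + d)) F) : Matrix (Fin (d + d)) (Fin (d + d)) F) *ᵥ Fin.append x y =
      Fin.append (A *ᵥ x + B *ᵥ y) (C *ᵥ x + D *ᵥ y) := by
  have e1 : (Fin.append x y) ∘ finSumFinEquiv = Sum.elim x y := by
    funext i
    rcases i with i | i
    · simp
    · rw [Function.comp_apply, finSumFinEquiv_apply_right, Fin.append_right]; rfl
  rw [coe_toBig, hg, Matrix.reindex_apply, Matrix.submatrix_mulVec_equiv, Equiv.symm_symm, e1,
    Matrix.fromBlocks_mulVec]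
  funext i
  obtain ⟨i, rfl⟩ := finSumFinEquiv.surjective i
  rw [Function.comp_apply, Equiv.symm_apply_apply]
  rcases i with i | i
  · simp
  · rw [finSumFinEquiv_apply_right, Fin.append_right]; rfl

theorem blk_mem_GU (d : ℕ) (a b : GL (Fin d) F) :
    toBig (bd (a, b)) ∈ Cfsg.GU (d + d) F q ↔ a ∈ Cfsg.GU d F q ∧ b ∈ Cfsg.GU d F q := by
  have e : ∀ x y : Fin d → F,
      ((toBig (bd (a, b)) : GL (Fin (d + d)) F) : Matrix (Fin (d + d)) (Fin (d + d)) F) *ᵥ Fin.append x y =
        Fin.append ((a : Matrix (Fin d) (Fin d) F) *ᵥ x) ((b : Matrix (Fin d) (Fin d) F) *ᵥ y) := by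
    intro x y
    rw [toBig_mulVec _ _ _ _ (bd (a, b)) (coe_bd a b)]
    simp
  constructor
  · intro h
    refine ⟨fun u v => ?_, fun u v => ?_⟩
    · have h1 : Cfsg.hermForm (d + d) F q _ _ = _ := h (Fin.append u 0) (Fin.append v 0)
      simp only [Units.coeHom_apply, e, Unitary.H_append, Matrix.mulVec_zero, Unitary.H_zero_left,
        add_zero] at h1
      exact h1
    · have h1 : Cfsg.hermForm (d + d) F q _ _ = _ := h (Fin.append 0 u) (Fin.append 0 v)
      simp only [Units.coeHom_apply, e, Unitary.H_append, Matrix.mulVec_zero, Unitary.H_zero_left,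
        zero_add] at h1
      exact h1
  · rintro ⟨ha, hb⟩ u v
    show Cfsg.hermForm (d + d) F q (_ *ᵥ u) (_ *ᵥ v) = _
    obtain ⟨u1, u2, rfl⟩ : ∃ u1 u2, u = Fin.append u1 u2 := ⟨_, _, (Fin.append_castAdd_natAdd (f := u)).symm⟩
    obtain ⟨v1, v2, rfl⟩ : ∃ v1 v2, v = Fin.append v1 v2 := ⟨_, _, (Fin.append_castAdd_natAdd (f := v)).symm⟩
    rw [Units.coeHom_apply, e, e, Unitary.H_append, Unitary.H_append]
    exact congrArg₂ (· + ·) (ha _ _) (hb _ _)

theorem sw_mem_GU (d : ℕ) : toBig (sw : GL (Fin d ⊕ Fin d) F) ∈ Cfsg.GU (d + d) F q := by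
  intro u v
  show Cfsg.hermForm (d + d) F q (_ *ᵥ u) (_ *ᵥ v) = _
  obtain ⟨u1, u2, rfl⟩ : ∃ u1 u2, u = Fin.append u1 u2 := ⟨_, _, (Fin.append_castAdd_natAdd (f := u)).symm⟩
  obtain ⟨v1, v2, rfl⟩ : ∃ v1 v2, v = Fin.append v1 v2 := ⟨_, _, (Fin.append_castAdd_natAdd (f := v)).symm⟩
  rw [Units.coeHom_apply, toBig_mulVec _ _ _ _ sw coe_sw, toBig_mulVec _ _ _ _ sw coe_sw,
    Unitary.H_append, Unitary.H_append]
  simp [add_comm]

theorem invariant_GU (hq : Odd q) (w : ℕ) (hw : 2 ≤ w) : Invariant (Cfsg.GU (2 ^ w) F q) := by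
  have hFo : Odd (Fintype.card F) := by rw [hF]; exact hq.pow
  have h2 : (2 : F) ≠ 0 := SylowSL2.two_ne_zero_of_odd hFo
  have h1q := Cfsg.Agent.Forms.HermStd.one_lt_q hF
  refine invariant_of_family h2 (fun n => Cfsg.GU n F q) ?_ (blk_mem_GU hF) (sw_mem_GU hF) ?_ w hw
  · haveI : Fintype (Unitary.fixField hF) := Fintype.ofFinite _
    have hK : Fintype.card (Unitary.fixField hF) = q := by
      rw [← Nat.card_eq_fintype_card, Unitary.natCard_fixField hF]
    obtain ⟨e⟩ := Unitary.nonempty_SU_two_equiv hF (Unitary.fixField hF) hK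
    have hD : ∀ μ : Fˣ, μ ∈ (Cfsg.GU 2 F q).map GeneralLinearGroup.det ↔ (μ : F) ^ (q + 1) = 1 := by
      intro μ
      constructor
      · rintro ⟨g, hg, rfl⟩
        have := SimpleFacts.SUMult.Blocks.det_norm_gu hF ⟨g, hg⟩
        rwa [GeneralLinearGroup.val_det_apply]
      · intro h
        refine ⟨GeneralLinearGroup.mkOfDetNeZero (Matrix.diagonal ![(μ : F), 1])
          (by simp [Matrix.det_diagonal]), ?_, Units.ext ?_⟩
        · intro u v
          refine Unitary.diag_preserves hF _ (fun i => ?_) u v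
          fin_cases i <;> simp [h]
        · simp [GeneralLinearGroup.val_det_apply, Matrix.det_diagonal]
    obtain ⟨P⟩ : Nonempty (Sylow 2 (Cfsg.GU 2 F q)) := inferInstance
    refine ⟨_, good_of_sylow (Cfsg.GU 2 F q) h2 (K := Unitary.fixField hF) (by rw [hK]; exact hq)
      ((MulEquiv.subgroupCongr (Subgroup.ext fun g => Iff.rfl :
        (Cfsg.GU 2 F q).comap SpecialLinearGroup.toGL = Cfsg.SU 2 F q)).trans e)
      (fun μ => (scal_mem_GU hF (by norm_num) μ).trans (hD μ).symm) ((hD _).2 ?_) P⟩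
    rw [Units.val_neg, Units.val_one, Even.neg_one_pow]
    exact Nat.even_add_one.2 (Nat.not_even_iff_odd.2 hq)
  · intro k hk
    rw [TwoAdic.factorization_GU hF hq, TwoAdic.factorization_GU hF hq]
    refine TwoAdic.total_double ?_ ?_ hk
    · rw [odd_neg, Int.odd_coe_nat]; exact hq
    · rw [Int.natAbs_neg, Int.natAbs_natCast]; exact h1q

theorem isPronormal_PSU (hq : Odd q) (w : ℕ) (hw : 2 ≤ w) (H : Subgroup (Cfsg.PSU (2 ^ w) F q))
    (hH : Odd H.index) : Cfsg.IsPronormal H := by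
  have e : (Cfsg.GU (2 ^ w) F q).comap SpecialLinearGroup.toGL = Cfsg.SU (2 ^ w) F q :=
    Subgroup.ext fun g => Iff.rfl
  have h := isPronormal_of_invariant (invariant_GU hF hq w hw)
  rw [e] at h
  exact h H hH

end UnitaryPart

end Cfsg.Agent.Classical.OddIndex.OddMain
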